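import Groth.Agent.AVAmpleLib.FrobExist
import Groth.Agent.AVAmpleLib.BcTate
import Groth.Agent.AVAmpleLib.TorsClosure
import Groth.Agent.AlbLib.AVBasic
import Groth.Agent.AlbLib.AVClass
import Groth.Agent.AbSchLib.MulN
import Groth.Agent.AntiAffLib.Image
import Mathlib.AlgebraicGeometry.AlgClosed.Basic
import Mathlib.FieldTheory.Finite.Basic
import Mathlib.RingTheory.Ideal.Quotient.Basic

/-!
Lang's theorem: the Lang map of a connected smooth affine group over a finite field is surjective.
-/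

set_option autoImplicit false
set_option linter.style.haveILetI false
set_option backward.isDefEq.respectTransparency false
set_option maxHeartbeats 1000000

noncomputable section

universe u

open CategoryTheory CategoryTheory.Limits MonoidalCategory CartesianMonoidalCategory MonObj AlgebraicGeometry
open Groth.Agent AVAmpleLib

namespace AlbNormLib

attribute [-instance] CategoryTheory.Hom.commGroup

/-- Equal `n`-th powers of congruent elements, when `n = 0` and the ideal squares to zero. -/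
theorem pow_eq_pow_of_sub_mem {R : Type u} [CommRing R] {I : Ideal R} (hI : I ^ 2 = ⊥) {n : ℕ} (hn : (n : R) = 0)
    {x y : R} (h : x - y ∈ I) : x ^ n = y ^ n := by
  rw [← sub_eq_zero, ← geom_sum₂_mul x y n]
  have hs : (∑ i ∈ Finset.range n, x ^ i * y ^ (n - 1 - i)) ∈ I := by
    rw [← Ideal.Quotient.eq_zero_iff_mem, map_sum]
    have hxy : Ideal.Quotient.mk I x = Ideal.Quotient.mk I y := Ideal.Quotient.eq.2 h
    simp only [map_mul, map_pow, hxy]
    rw [geom_sum₂_self, show (n : R ⧸ I) = Ideal.Quotient.mk I (n : R) from (map_natCast _ n).symm, hn, map_zero,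
      zero_mul]
  have h2 := Ideal.mul_mem_mul hs h
  rwa [← pow_two, hI, Ideal.mem_bot] at h2

/-- The map on global sections of a point with values in an affine scheme. -/
def sectMap {R : CommRingCat.{u}} {X : Scheme.{u}} (g : Spec R ⟶ X) : Γ(X, ⊤) ⟶ R :=
  g.appTop ≫ (Scheme.ΓSpecIso R).hom

theorem sectMap_comp {R S : CommRingCat.{u}} {X : Scheme.{u}} (φ : R ⟶ S) (g : Spec R ⟶ X) :
    sectMap (Spec.map φ ≫ g) = sectMap g ≫ φ := by
  simp only [sectMap, Scheme.Hom.comp_appTop, Category.assoc, Scheme.ΓSpecIso_naturality]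

theorem sectMap_injective {R : CommRingCat.{u}} {X : Scheme.{u}} [IsAffine X] {g g' : Spec R ⟶ X}
    (h : sectMap g = sectMap g') : g = g' :=
  ext_of_isAffine ((cancel_mono (Scheme.ΓSpecIso R).hom).1 h)

variable {k : Type u} [Field k] [Finite k] {G : Over (Spec (CommRingCat.of k))} [IsAffine G.left]

theorem natCard_eq_zero_of_hom {R : CommRingCat.{u}} (g : Spec R ⟶ Spec (CommRingCat.of k)) :
    ((Nat.card k : ℕ) : R) = 0 := by
  obtain ⟨f, -⟩ := Spec.map_surjective g
  haveI := Fintype.ofFinite k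
  rw [← map_natCast f.hom, Nat.card_eq_fintype_card, FiniteField.cast_card_eq_zero, map_zero]

/-- The Frobenius does not see infinitesimal displacements. -/
theorem comp_frob_eq (F : G ⟶ G) (hF : ∀ s : Γ(G.left, ⊤), F.left.appTop s = s ^ Nat.card k) {R S : CommRingCat.{u}}
    (φ : R ⟶ S) (hI : RingHom.ker φ.hom ^ 2 = ⊥) (g₁ g₂ : Spec R ⟶ G.left)
    (hg : Spec.map φ ≫ g₁ = Spec.map φ ≫ g₂) : g₁ ≫ F.left = g₂ ≫ F.left := by
  refine sectMap_injective ?_
  ext s
  have hq : ((Nat.card k : ℕ) : R) = 0 := natCard_eq_zero_of_hom (g₁ ≫ G.hom)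
  have hkey : ∀ g : Spec R ⟶ G.left, (sectMap (g ≫ F.left)).hom s = (sectMap g).hom s ^ Nat.card k := fun g => by
    show (Scheme.ΓSpecIso R).hom ((g.appTop) (F.left.appTop s)) = _
    rw [hF, map_pow, map_pow]
    rfl
  rw [hkey, hkey]
  refine pow_eq_pow_of_sub_mem hI hq ?_
  rw [RingHom.mem_ker, map_sub, sub_eq_zero]
  have h := congrArg (fun m : Γ(G.left, ⊤) ⟶ S => m.hom s)
    (show sectMap g₁ ≫ φ = sectMap g₂ ≫ φ by rw [← sectMap_comp, ← sectMap_comp, hg])
  exact h

variable [GrpObj G]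

/-- An endomorphism raising functions to the power of the cardinality is the Frobenius homomorphism. -/
theorem isMonHom_frob (F : G ⟶ G) (hF : ∀ s : Γ(G.left, ⊤), F.left.appTop s = s ^ Nat.card k) : IsMonHom F := by
  obtain ⟨π, hπ, hle, -, happ⟩ := AVAmpleLib.exists_frob G
  suffices F = π by rw [this]; exact hπ
  refine Over.OverMorphism.ext (ext_of_isAffine ?_)
  ext s
  rw [hF s, ← happ ⊤ s]
  simp [Scheme.Hom.appLE, Scheme.Hom.appTop]

/-- A constructible set containing the generic point contains a nonempty open set. -/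
theorem exists_open_subset_of_constructible {X : Type u} [TopologicalSpace X] [IrreducibleSpace X] {s : Set X}
    (hs : Topology.IsConstructible s) (η₀ : X) (hη : closure {η₀} = Set.univ) (hmem : η₀ ∈ s) :
    ∃ U : Set X, IsOpen U ∧ U.Nonempty ∧ U ⊆ s := by
  have key : (∃ U : Set X, IsOpen U ∧ U.Nonempty ∧ U ⊆ s) ∨ ∃ U : Set X, IsOpen U ∧ U.Nonempty ∧ U ⊆ sᶜ := by
    clear hmem
    induction hs using Topology.IsConstructible.empty_union_induction with
    | open_retrocompact U hU hUc =>
      rcases U.eq_empty_or_nonempty with h | h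
      · right; exact ⟨Set.univ, isOpen_univ, Set.univ_nonempty, by rw [h]; simp⟩
      · left; exact ⟨U, hU, h, subset_rfl⟩
    | union s hs t ht ihs iht =>
      rcases ihs with ⟨U, hU, hne, hsub⟩ | ⟨U, hU, hne, hsub⟩
      · left; exact ⟨U, hU, hne, hsub.trans Set.subset_union_left⟩
      · rcases iht with ⟨V, hV, hVne, hVsub⟩ | ⟨V, hV, hVne, hVsub⟩
        · left; exact ⟨V, hV, hVne, hVsub.trans Set.subset_union_right⟩
        · right
          refine ⟨U ∩ V, hU.inter hV, nonempty_preirreducible_inter hU hV hne hVne, ?_⟩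
          rw [Set.compl_union]
          exact Set.inter_subset_inter hsub hVsub
    | compl s hs ih =>
      rcases ih with h | h
      · right; simpa using h
      · left; exact h
  rcases key with h | ⟨U, hU, ⟨y, hy⟩, hsub⟩
  · exact h
  · have : η₀ ∈ U := (specializes_iff_mem_closure.2 (hη ▸ Set.mem_univ y)).mem_open hU hy
    exact absurd hmem (hsub this)

/-- Lang's theorem on points. -/
theorem exists_lang_preimage [Smooth G.hom] [ConnectedSpace G.left] (F : G ⟶ G) [IsMonHom F]
    (hF : ∀ s : Γ(G.left, ⊤), F.left.appTop s = s ^ Nat.card k) (Ω : Type u) [Field Ω] [Algebra k Ω] [IsAlgClosed Ω]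
    (c : SGA7.pt (K := k) Ω ⟶ G) : ∃ g : SGA7.pt (K := k) Ω ⟶ G, g ≫ (𝟙 G * F⁻¹) = c := by
  letI : GrpObj ((bcF Ω).obj G) := Functor.grpObjObj
  haveI : QuasiCompact G.hom := quasiCompact_of_compactSpace _
  haveI : IsSeparated G.hom := GrpField.isSeparated_grp
  haveI : GeometricallyIntegral G.hom := AlbLib.geometricallyIntegral_grp G
  let X := (bcF Ω).obj G
  haveI : IsSeparated X.hom := inferInstanceAs (IsSeparated (pullback.snd G.hom _))
  haveI : QuasiCompact X.hom := inferInstanceAs (QuasiCompact (pullback.snd G.hom _))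
  haveI : LocallyOfFiniteType X.hom := inferInstanceAs (LocallyOfFiniteType (pullback.snd G.hom _))
  haveI : GeometricallyIntegral X.hom := inferInstanceAs (GeometricallyIntegral (pullback.snd G.hom _))
  haveI : IsIntegral X.left := GeometricallyIntegral.isIntegral_of_subsingleton X.hom
  haveI : JacobsonSpace X.left := LocallyOfFiniteType.jacobsonSpace X.hom
  let F' : X ⟶ X := (bcF Ω).map F
  haveI : IsMonHom F' := inferInstanceAs (IsMonHom ((bcF Ω).map F))
  let L : (𝟙_ (Over (Spec (CommRingCat.of Ω))) ⟶ X) → (X ⟶ X) := fun a => (𝟙 X * (toUnit X ≫ a)) * F'⁻¹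
  have hunr : ∀ a, FormallyUnramified (L a).left := fun a => by
    refine FormallyUnramified.of_hom_ext _ fun R S φ _ hI g₁ g₂ hg hgf => ?_
    have hst : g₂ ≫ X.hom = g₁ ≫ X.hom := by
      have := congrArg (· ≫ X.hom) hgf
      simp only [Category.assoc, Over.w] at this
      exact this.symm
    let x : Over.mk (g₁ ≫ X.hom) ⟶ X := Over.homMk g₁ rfl
    let y : Over.mk (g₁ ≫ X.hom) ⟶ X := Over.homMk g₂ hst
    have hFxy : x ≫ F' = y ≫ F' := by
      refine Over.OverMorphism.ext (pullback.hom_ext ?_ ?_)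
      · show (g₁ ≫ F'.left) ≫ pullback.fst G.hom _ = (g₂ ≫ F'.left) ≫ pullback.fst G.hom _
        rw [Category.assoc, Category.assoc,
          show F'.left ≫ pullback.fst G.hom _ = pullback.fst G.hom _ ≫ F.left from pullback.lift_fst _ _ _,
          ← Category.assoc, ← Category.assoc]
        exact comp_frob_eq F hF φ hI _ _ (by rw [reassoc_of% hg])
      · show (g₁ ≫ F'.left) ≫ X.hom = (g₂ ≫ F'.left) ≫ X.hom
        rw [Category.assoc, Category.assoc, Over.w F']
        exact hst.symm
    have hL : x ≫ L a = y ≫ L a := Over.OverMorphism.ext hgf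
    simp only [L, MonObj.comp_mul, GrpObj.comp_inv, Category.comp_id, ← Category.assoc, hFxy] at hL
    rw [mul_left_inj, toUnit_unique (x ≫ toUnit X) (y ≫ toUnit X), mul_left_inj] at hL
    exact congrArg (fun m : Over.mk (g₁ ≫ X.hom) ⟶ X => CommaMorphism.left m) hL
  -- each twisted map has an open set in its image
  have hopen : ∀ a, ∃ U : Set X.left, IsOpen U ∧ U.Nonempty ∧ U ⊆ Set.range (L a).left := fun a => by
    haveI := hunr a
    haveI : LocallyOfFinitePresentation (L a).left := AntiAffLib.lfp_of_lft (L a)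
    haveI : LocallyQuasiFinite (L a).left := DescLib.lqf_of_unramified (L a).left
    haveI : QuasiCompact (L a).left := by
      haveI : QuasiCompact ((L a).left ≫ X.hom) := by rw [Over.w (L a)]; infer_instance
      exact QuasiCompact.of_comp (L a).left X.hom
    haveI : CompactSpace X.left := QuasiCompact.compactSpace_of_compactSpace X.hom
    haveI : QuasiSeparatedSpace X.left :=
      (quasiSeparated_iff_quasiSeparatedSpace X.hom).1 inferInstance
    obtain ⟨x, hx⟩ := AbSchLib.exists_generic_image X.hom (L a).left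
    rw [irreducibleComponents_eq_singleton, Set.mem_singleton_iff] at hx
    refine exists_open_subset_of_constructible ?_ _ hx ⟨x, rfl⟩
    rw [← Set.image_univ]
    exact (L a).left.isConstructible_image Topology.IsConstructible.univ
  -- points with prescribed image
  have hlift : ∀ a (z : X.left), IsClosed ({z} : Set X.left) → z ∈ Set.range (L a).left →
      ∃ g : 𝟙_ (Over (Spec (CommRingCat.of Ω))) ⟶ X, (g ≫ L a).left (IsLocalRing.closedPoint Ω) = z := by
    intro a z hz hzr
    obtain ⟨w, hw, hwc⟩ := nonempty_inter_closedPoints (X := X.left) (Z := (L a).left ⁻¹' {z})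
      (by obtain ⟨w, hw⟩ := hzr; exact ⟨w, hw⟩) (hz.preimage (L a).left.continuous).isLocallyClosed
    refine ⟨Over.homMk (pointOfClosedPoint X.hom w hwc) (pointOfClosedPoint_comp _ _ _), ?_⟩
    show (pointOfClosedPoint X.hom w hwc ≫ (L a).left) _ = z
    rw [Scheme.Hom.comp_apply, pointOfClosedPoint_apply]
    exact hw
  let c' := bcPt Ω c
  obtain ⟨U, hU, hUne, hUs⟩ := hopen c'
  obtain ⟨V, hV, hVne, hVs⟩ := hopen 1
  obtain ⟨z, hz, hzc⟩ := nonempty_inter_closedPoints (X := X.left) (nonempty_preirreducible_inter hU hV hUne hVne)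
    (hU.inter hV).isLocallyClosed
  obtain ⟨g, hg⟩ := hlift c' z hzc (hUs hz.1)
  obtain ⟨h, hh⟩ := hlift 1 z hzc (hVs hz.2)
  have hgh : g ≫ L c' = h ≫ L 1 := Over.OverMorphism.ext
    (ext_of_apply_closedPoint_eq X.hom (Over.w _) (Over.w _) (hg.trans hh.symm))
  have hu : ∀ m : 𝟙_ (Over (Spec (CommRingCat.of Ω))) ⟶ X, m ≫ toUnit X = 𝟙 _ := fun m => toUnit_unique _ _
  simp only [L, MonObj.comp_mul, GrpObj.comp_inv, Category.comp_id, ← Category.assoc, hu, Category.id_comp,
    MonObj.comp_one, _root_.mul_one] at hgh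
  let e : (SGA7.pt (K := k) Ω ⟶ G) ≃* (𝟙_ (Over (Spec (CommRingCat.of Ω))) ⟶ X) :=
    MulEquiv.mk' (Equiv.ofBijective _ (bcPt_bijective Ω)) (bcPt_mul Ω)
  refine ⟨e.symm (g⁻¹ * h), e.injective ?_⟩
  show bcPt Ω (e.symm (g⁻¹ * h) ≫ (𝟙 G * F⁻¹)) = c'
  rw [MonObj.comp_mul, GrpObj.comp_inv, Category.comp_id]
  show e (e.symm (g⁻¹ * h) * (e.symm (g⁻¹ * h) ≫ F)⁻¹) = c'
  rw [map_mul, map_inv, e.apply_symm_apply,
    show e (e.symm (g⁻¹ * h) ≫ F) = (g⁻¹ * h) ≫ F' by
      show bcPt Ω _ = _
      rw [bcPt_comp]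
      exact congrArg (· ≫ F') (e.apply_symm_apply _),
    MonObj.mul_comp, GrpObj.inv_comp, mul_inv_rev, inv_inv]
  have h3 : c' = g⁻¹ * (h * (h ≫ F')⁻¹) * (g ≫ F') := by
    rw [← hgh]
    group
  rw [h3]
  group

/-- Lang's theorem. -/
theorem surjective_lang [Smooth G.hom] [ConnectedSpace G.left] (F : G ⟶ G)
    (hF : ∀ s : Γ(G.left, ⊤), F.left.appTop s = s ^ Nat.card k) : Surjective (𝟙 G * F⁻¹ : G ⟶ G).left := by
  haveI := isMonHom_frob F hF
  refine ⟨fun x => ?_⟩
  let Ω := AlgebraicClosure (G.left.residueField x)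
  let ψ : Spec (CommRingCat.of Ω) ⟶ G.left :=
    Spec.map (CommRingCat.ofHom (algebraMap (G.left.residueField x) Ω)) ≫ G.left.fromSpecResidueField x
  obtain ⟨f, hf⟩ := Spec.map_surjective (ψ ≫ G.hom)
  letI : Algebra k Ω := f.hom.toAlgebra
  let c : SGA7.pt (K := k) Ω ⟶ G := Over.homMk ψ hf.symm
  obtain ⟨g, hg⟩ := exists_lang_preimage F hF Ω c
  refine ⟨imgPt g, ?_⟩
  rw [← imgPt_comp, hg]
  show ψ _ = x
  rw [Scheme.Hom.comp_apply]
  exact Scheme.fromSpecResidueField_apply _ _

end AlbNormLib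

end
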