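import Groth.Agent.AlbNormLib.Primary
import Groth.Agent.AVAmpleLib.Torsion

/-!
Abelian subvarieties descend along primary field extensions, main construction.
-/

set_option autoImplicit false
set_option linter.style.haveILetI false
set_option backward.isDefEq.respectTransparency false
set_option maxHeartbeats 1000000

noncomputable section

universe u

open CategoryTheory CategoryTheory.Limits MonoidalCategory CartesianMonoidalCategory MonObj AlgebraicGeometry
open TopologicalSpace (Closeds)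
open Groth.Agent AVAmpleLib

namespace AlbNormLib

variable {k K Ω : Type u} [Field k] [Field K] [Algebra k K] [Field Ω] [Algebra k Ω] [Algebra K Ω] [IsScalarTower k K Ω]
  [IsAlgClosed Ω]

variable {A : Over (Spec (CommRingCat.of k))} [GrpObj A] [IsProper A.hom] [GeometricallyIntegral A.hom]

/-- An abelian variety over any field has divisible groups of geometric points. -/
theorem exists_pow_eq_geom {B' : Over (Spec (CommRingCat.of K))} [GrpObj B'] [IsProper B'.hom]
    [GeometricallyIntegral B'.hom] {n : ℕ} (hn : 0 < n) (a : SGA7.pt (K := K) Ω ⟶ B') :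
    ∃ d : SGA7.pt (K := K) Ω ⟶ B', d ^ n = a := by
  letI : GrpObj ((bcF Ω).obj B') := Functor.grpObjObj
  haveI : IsProper ((bcF Ω).obj B').hom := inferInstanceAs (IsProper (pullback.snd B'.hom _))
  haveI : GeometricallyIntegral ((bcF Ω).obj B').hom := inferInstanceAs (GeometricallyIntegral (pullback.snd B'.hom _))
  haveI : IsCommMonObj ((bcF Ω).obj B') := CubeConsLib.isCommMonObj_field
  let e : (SGA7.pt (K := K) Ω ⟶ B') ≃* (𝟙_ (Over (Spec (CommRingCat.of Ω))) ⟶ (bcF Ω).obj B') :=
    MulEquiv.mk' (Equiv.ofBijective _ (bcPt_bijective Ω)) (bcPt_mul Ω)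
  obtain ⟨d, hd⟩ := AVAmpleLib.exists_pow_eq _ hn (e a)
  exact ⟨e.symm d, by rw [← map_pow, hd, e.symm_apply_apply]⟩

/-- Torsion of order prime to the characteristic gives closed points. -/
theorem isClosed_imgPt_of_tors {l : ℕ} [Fact l.Prime] {a : SGA7.pt (K := k) Ω ⟶ A} {m : ℕ} (ha : a ^ (l ^ m) = 1) :
    IsClosed ({imgPt a} : Set A.left) := by
  haveI : IsCommMonObj A := CubeConsLib.isCommMonObj_field
  haveI : IsFinite (𝟙 A ^ (l ^ m)).left := by
    rw [← zpow_natCast]
    exact isFinite_zpow A (n := ((l ^ m : ℕ) : ℤ)) (by exact_mod_cast (pow_pos (Fact.out : l.Prime).pos m).ne')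
  haveI : IsClosedImmersion (η[A] : 𝟙_ (Over (Spec (CommRingCat.of k))) ⟶ A).left :=
    isClosedImmersion_of_comp_eq_id A.hom _ (Over.w _)
  haveI : JacobsonSpace A.left := LocallyOfFiniteType.jacobsonSpace A.hom
  let f := (𝟙 A ^ (l ^ m)).left
  let F := f ⁻¹' Set.range (η[A] : 𝟙_ (Over (Spec (CommRingCat.of k))) ⟶ A).left
  have hFc : IsClosed F := (Scheme.Hom.isClosedEmbedding _).isClosed_range.preimage f.continuous
  haveI : Subsingleton (𝟙_ (Over (Spec (CommRingCat.of k)))).left := inferInstanceAs (Subsingleton (PrimeSpectrum k))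
  have hFfin : F.Finite := (Set.subsingleton_range _).finite.preimage' fun y _ => f.finite_preimage_singleton y
  have hFsub : F ⊆ closedPoints A.left := by
    have h2 : F = F ∩ closedPoints A.left := subset_antisymm
      ((closure_inter_closedPoints hFc).symm.subset.trans (closure_minimal subset_rfl (by
        rw [← Set.biUnion_of_singleton (F ∩ closedPoints A.left)]
        exact (hFfin.inter_of_left _).isClosed_biUnion fun x hx => hx.2))) Set.inter_subset_left
    exact h2.subset.trans Set.inter_subset_right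
  refine hFsub ?_
  show f (imgPt a) ∈ Set.range (η[A] : 𝟙_ (Over (Spec (CommRingCat.of k))) ⟶ A).left
  rw [← imgPt_comp, imgPt_eq_unit_iff, MonObj.comp_pow, Category.comp_id]
  exact ha

local instance grpBcK' (Z : Over (Spec (CommRingCat.of k))) [GrpObj Z] : GrpObj ((bcF K).obj Z) := Functor.grpObjObj

variable (Ω) in
/-- An abelian subvariety over a primary extension is defined over the ground field. -/
theorem exists_descend [Normal K Ω] (hprim : ∀ x : K, IsSeparable k x → x ∈ (algebraMap k K).range)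
    (B' : Over (Spec (CommRingCat.of K))) [GrpObj B'] [IsProper B'.hom] [GeometricallyIntegral B'.hom]
    (i' : B' ⟶ (bcF K).obj A) [IsMonHom i'] [IsClosedImmersion i'.left] :
    ∃ (B : Over (Spec (CommRingCat.of k))) (_ : GrpObj B) (i : B ⟶ A), IsProper B.hom ∧ GeometricallyIntegral B.hom ∧
      IsMonHom i ∧ IsClosedImmersion i.left ∧
      ∃ e : (bcF K).obj B ≅ B', e.hom ≫ i' = (bcF K).map i := by
  haveI : IsCommMonObj A := CubeConsLib.isCommMonObj_field
  haveI : IsCommMonObj B' := CubeConsLib.isCommMonObj_field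
  let π : ((bcF K).obj A).left ⟶ A.left := pullback.fst A.hom (Spec.map (CommRingCat.ofHom (algebraMap k K)))
  have hπ : ∀ a : SGA7.pt (K := k) Ω ⟶ A, π (imgPt (liftK (K := K) a)) = imgPt a := fst_imgPt_liftK
  let φ : (SGA7.pt (K := k) Ω ⟶ A) →* (SGA7.pt (K := K) Ω ⟶ (bcF K).obj A) := liftKHom
  have hφinj : Function.Injective φ := fun a b h => by
    refine Over.OverMorphism.ext ?_
    have h' : (φ a).left = (φ b).left := congrArg (fun c => CommaMorphism.left c) h
    rw [← liftK_fst (K := K) a, ← liftK_fst (K := K) b]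
    exact congrArg (· ≫ π) h'
  let ι' : (SGA7.pt (K := K) Ω ⟶ B') →* (SGA7.pt (K := K) Ω ⟶ (bcF K).obj A) :=
    MonoidHom.mk' (· ≫ i') fun a b => MonObj.mul_comp a b i'
  obtain ⟨l, hl', hlk⟩ := exists_prime_ne_zero k
  haveI := hl'
  -- the closure of the torsion points of the subvariety
  let S : Set (SGA7.pt (K := k) Ω ⟶ A) := {a | (∃ m, a ^ (l ^ m) = 1) ∧ imgPt (liftK (K := K) a) ∈ Set.range i'.left}
  let D : Set A.left := closure (imgPt '' S)
  have hD : IsClosed D := isClosed_closure
  have hopen : IsOpenMap π := by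
    haveI : UniversallyOpen (Spec.map (CommRingCat.ofHom (algebraMap k K))) := inferInstance
    exact π.isOpenMap
  haveI : LocallyOfFiniteType ((bcF K).obj A).hom := inferInstanceAs (LocallyOfFiniteType (pullback.snd A.hom _))
  haveI : JacobsonSpace ((bcF K).obj A).left := LocallyOfFiniteType.jacobsonSpace ((bcF K).obj A).hom
  have hD'c : IsClosed (Set.range i'.left) := i'.left.isClosedEmbedding.isClosed_range
  have hpre₁ : π ⁻¹' D ⊆ Set.range i'.left := by
    rw [hopen.preimage_closure_eq_closure_preimage π.continuous]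
    refine closure_minimal ?_ hD'c
    rintro z ⟨a, ⟨⟨m, hm⟩, ha⟩, hz⟩
    have hc : IsClosed (π ⁻¹' {imgPt a}) := (isClosed_imgPt_of_tors hm).preimage π.continuous
    have hz' : z ∈ closure (π ⁻¹' {imgPt a} ∩ closedPoints ((bcF K).obj A).left) := by
      rw [closure_inter_closedPoints hc]
      exact hz.symm
    refine closure_minimal ?_ hD'c hz'
    rintro w ⟨hw, hwc⟩
    obtain ⟨c, rfl⟩ := exists_imgPt (Ω := Ω) (mem_closedPoints_iff.1 hwc)
    obtain ⟨a', rfl⟩ := exists_liftK c
    rw [Set.mem_preimage, hπ, Set.mem_singleton_iff] at hw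
    rw [← imgPt_liftK_eq hprim (by rw [Nat.cast_pow]; exact pow_ne_zero m hlk) hm hw.symm]
    exact ha
  have hpre : π ⁻¹' D = Set.range i'.left := by
    refine subset_antisymm hpre₁ ?_
    letI : GrpObj ((bcF Ω).obj B') := Functor.grpObjObj
    haveI : IsProper ((bcF Ω).obj B').hom := inferInstanceAs (IsProper (pullback.snd B'.hom _))
    haveI : GeometricallyIntegral ((bcF Ω).obj B').hom :=
      inferInstanceAs (GeometricallyIntegral (pullback.snd B'.hom _))
    haveI : IsCommMonObj ((bcF Ω).obj B') := CubeConsLib.isCommMonObj_field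
    let e : (SGA7.pt (K := K) Ω ⟶ B') ≃* (𝟙_ (Over (Spec (CommRingCat.of Ω))) ⟶ (bcF Ω).obj B') :=
      MulEquiv.mk' (Equiv.ofBijective _ (bcPt_bijective Ω)) (bcPt_mul Ω)
    let p : ((bcF Ω).obj B').left ⟶ B'.left := pullback.fst B'.hom (Spec.map (CommRingCat.ofHom (algebraMap K Ω)))
    haveI : Surjective (Spec.map (CommRingCat.ofHom (algebraMap K Ω))) :=
      ⟨fun y => ⟨Classical.arbitrary (PrimeSpectrum Ω), Subsingleton.elim (α := PrimeSpectrum K) _ _⟩⟩
    haveI : Surjective p := MorphismProperty.pullback_fst _ _ inferInstance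
    have hlΩ : (l : Ω) ≠ 0 := fun h => hlk ((algebraMap k Ω).injective (by rw [map_natCast, map_zero]; exact h))
    have hcl : IsClosed ((p ≫ i'.left) ⁻¹' (π ⁻¹' D)) :=
      (hD.preimage π.continuous).preimage (p ≫ i'.left).continuous
    have hsub : closure (AVAmpleLib.pt '' torsPow ((bcF Ω).obj B') l) ⊆ (p ≫ i'.left) ⁻¹' (π ⁻¹' D) := by
      refine closure_minimal ?_ hcl
      rintro _ ⟨c, ⟨m, hm⟩, rfl⟩
      obtain ⟨b, rfl⟩ := e.surjective c
      have hb : b ^ (l ^ m) = 1 := e.injective (by rw [map_pow, map_one]; exact hm)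
      obtain ⟨a, ha⟩ := exists_liftK (b ≫ i')
      have ha1 : a ^ (l ^ m) = 1 := hφinj (by
        rw [map_pow, map_one, show φ a = ι' b from ha, ← map_pow, hb, map_one])
      refine subset_closure ⟨a, ⟨⟨m, ha1⟩, ?_⟩, ?_⟩
      · rw [ha]; exact ⟨_, rfl⟩
      · rw [← hπ, ha, Scheme.Hom.comp_apply, show p (AVAmpleLib.pt (e b)) = imgPt b from fst_bcPt b]
        rfl
    rw [dense_torsPow l hlΩ] at hsub
    rintro _ ⟨x, rfl⟩
    obtain ⟨y, rfl⟩ := p.surjective x
    exact hsub (Set.mem_univ y)
  -- its geometric points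
  have hfac : ∀ a : SGA7.pt (K := k) Ω ⟶ A, imgPt a ∈ D ↔ ∃ b, ι' b = φ a := fun a => by
    rw [← hπ, ← Set.mem_preimage, hpre]
    constructor
    · exact fun h => exists_factor i' _ h
    · rintro ⟨b, hb⟩
      exact ⟨imgPt b, (imgPt_comp b i').symm.trans (congrArg imgPt hb)⟩
  have h1 : imgPt (1 : SGA7.pt (K := k) Ω ⟶ A) ∈ D := (hfac 1).2 ⟨1, by rw [map_one, map_one]⟩
  have hmul : ∀ a b : SGA7.pt (K := k) Ω ⟶ A, imgPt a ∈ D → imgPt b ∈ D → imgPt (a * b) ∈ D := fun a b ha hb => by
    obtain ⟨a', ha'⟩ := (hfac a).1 ha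
    obtain ⟨b', hb'⟩ := (hfac b).1 hb
    exact (hfac _).2 ⟨a' * b', by rw [map_mul, map_mul, ha', hb']⟩
  have hinv : ∀ a : SGA7.pt (K := k) Ω ⟶ A, imgPt a ∈ D → imgPt a⁻¹ ∈ D := fun a ha => by
    obtain ⟨a', ha'⟩ := (hfac a).1 ha
    exact (hfac _).2 ⟨a'⁻¹, by rw [map_inv, map_inv, ha']⟩
  obtain ⟨C, _, j, hj, hjcl, hCp, hCi, hCD, F, hF, hFc⟩ := exists_torsClosure D hD h1 hmul hinv
  -- every point comes from `C`, by divisibility
  let ψ : (SGA7.pt (K := k) Ω ⟶ C) →* (SGA7.pt (K := K) Ω ⟶ (bcF K).obj A) :=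
    φ.comp (MonoidHom.mk' (· ≫ j) fun a b => MonObj.mul_comp a b j)
  let H : Subgroup (SGA7.pt (K := K) Ω ⟶ B') := ψ.range.comap ι'
  have hg : ∀ b, ∃ f : F, ∃ c, ι' b = φ f * ψ c := fun b => by
    obtain ⟨a, ha⟩ := exists_liftK (b ≫ i')
    obtain ⟨f, hf, c, hc⟩ := hFc a ((hfac a).2 ⟨b, ha.symm⟩)
    exact ⟨⟨f, hf⟩, c, by rw [show ι' b = φ a from ha.symm, hc, map_mul]; rfl⟩
  choose g c hgc using hg
  haveI : Finite F := hF.to_subtype
  haveI : Finite ((SGA7.pt (K := K) Ω ⟶ B') ⧸ H) := by
    refine Finite.of_injective (fun q => g q.out) fun q q' h => ?_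
    rw [← QuotientGroup.out_eq' q, ← QuotientGroup.out_eq' q', QuotientGroup.eq]
    refine ⟨(c q.out)⁻¹ * c q'.out, ?_⟩
    have h' : g q.out = g q'.out := h
    rw [map_mul, map_inv, map_mul, map_inv, hgc, hgc, h', mul_inv_rev, _root_.mul_assoc, inv_mul_cancel_left]
  have hH : ∀ b, b ∈ H := fun b => by
    haveI : H.Normal := ⟨fun n hn x => by rwa [mul_comm x n, mul_inv_cancel_right]⟩
    obtain ⟨d, rfl⟩ := exists_pow_eq_geom (Nat.pos_of_ne_zero (Subgroup.index_ne_zero_of_finite (H := H))) b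
    exact Subgroup.pow_index_mem H d
  -- comparison over the extension
  haveI : IsClosedImmersion ((bcF K).map j).left := MorphismProperty.baseChange_map _ j hjcl
  haveI : LocallyOfFiniteType C.hom := inferInstance
  have hjC : ∀ c : SGA7.pt (K := k) Ω ⟶ C, imgPt (c ≫ j) ∈ D := hCD
  have hrange : Set.range ((bcF K).map j).left = Set.range i'.left := by
    refine subset_antisymm ?_ ?_
    · rintro _ ⟨x, rfl⟩
      rw [← hpre, Set.mem_preimage]
      have : π (((bcF K).map j).left x) =
          j.left (pullback.fst C.hom (Spec.map (CommRingCat.ofHom (algebraMap k K))) x) := by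
        rw [← Scheme.Hom.comp_apply, ← Scheme.Hom.comp_apply]
        have hsq : ((bcF K).map j).left ≫ π = pullback.fst C.hom (Spec.map (CommRingCat.ofHom (algebraMap k K))) ≫ j.left :=
          pullback.lift_fst _ _ _
        rw [hsq]
        rfl
      rw [this]
      exact range_subset_of_imgPts j hD hjC ⟨_, rfl⟩
    · have hc : IsClosed (i'.left ⁻¹' Set.range ((bcF K).map j).left) :=
        ((bcF K).map j).left.isClosedEmbedding.isClosed_range.preimage i'.left.continuous
      refine range_subset_of_imgPts (Ω := Ω) i' ((bcF K).map j).left.isClosedEmbedding.isClosed_range fun b => ?_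
      obtain ⟨c, hc⟩ := hH b
      refine ⟨imgPt (liftK (K := K) c), ?_⟩
      rw [← imgPt_comp]
      refine congrArg imgPt ?_
      rw [← show ψ c = b ≫ i' from hc]
      show liftK c ≫ (bcF K).map j = liftK (c ≫ j)
      rw [liftK, liftK, Functor.map_comp, Category.assoc]
  haveI : IsIntegral B'.left := GeometricallyIntegral.isIntegral_of_subsingleton B'.hom
  haveI : GeometricallyIntegral ((bcF K).obj C).hom := inferInstanceAs (GeometricallyIntegral (pullback.snd C.hom _))
  haveI : IsIntegral ((bcF K).obj C).left := GeometricallyIntegral.isIntegral_of_subsingleton ((bcF K).obj C).hom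
  obtain ⟨u, hu⟩ := exists_lift_of_reduced i'.left ((bcF K).map j).left hrange.subset
  obtain ⟨v, hv⟩ := exists_lift_of_reduced ((bcF K).map j).left i'.left hrange.symm.subset
  have huv : u ≫ v = 𝟙 _ := by rw [← cancel_mono ((bcF K).map j).left, Category.assoc, hv, hu, Category.id_comp]
  have hvu : v ≫ u = 𝟙 _ := by rw [← cancel_mono i'.left, Category.assoc, hu, hv, Category.id_comp]
  refine ⟨C, inferInstance, j, hCp, hCi, hj, hjcl, Over.isoMk ⟨u, v, huv, hvu⟩ ?_, Over.OverMorphism.ext hu⟩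
  rw [← Over.w ((bcF K).map j), ← hu, Category.assoc, Over.w i']

end AlbNormLib

end
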