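import Mathlib.AlgebraicGeometry.Morphisms.FiniteType
import Mathlib.AlgebraicGeometry.Noetherian
import Mathlib.AlgebraicGeometry.Over
import Mathlib.FieldTheory.Finite.Basic
import Mathlib.RingTheory.FiniteType

/-!
Over an algebraic extension of a finite field every self-map of a scheme of finite type has finite orbits
on rational points.
-/

set_option autoImplicit false
set_option linter.style.haveILetI false
set_option backward.isDefEq.respectTransparency false
set_option maxHeartbeats 1000000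

noncomputable section

universe u

open CategoryTheory CategoryTheory.Limits AlgebraicGeometry

namespace AlbNormLib

variable {k : Type u} [Field k] {X : Scheme.{u}} (f : X ⟶ Spec (CommRingCat.of k))

/-- The constants on an open set. -/
def cst (U : X.Opens) : k →+* Γ(X, U) :=
  (f.appLE ⊤ U (by simp)).hom.comp (Scheme.ΓSpecIso (CommRingCat.of k)).inv.hom

/-- Evaluation of functions at a rational point. -/
def evalPt (x : Spec (CommRingCat.of k) ⟶ X) (U : X.Opens) (h : x (IsLocalRing.closedPoint k) ∈ U) :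
    Γ(X, U) →+* k :=
  (Scheme.ΓSpecIso (CommRingCat.of k)).hom.hom.comp (x.appLE U ⊤ (fun z _ => by
    rw [show z = IsLocalRing.closedPoint k from Subsingleton.elim (α := PrimeSpectrum k) _ _]
    exact h)).hom

variable {f}

theorem evalPt_cst {x : Spec (CommRingCat.of k) ⟶ X} (hx : x ≫ f = 𝟙 _) (U : X.Opens)
    (h : x (IsLocalRing.closedPoint k) ∈ U) (c : k) : evalPt x U h (cst f U c) = c := by
  show (Scheme.ΓSpecIso (CommRingCat.of k)).hom.hom ((f.appLE ⊤ U _ ≫ x.appLE U ⊤ _).hom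
    ((Scheme.ΓSpecIso (CommRingCat.of k)).inv.hom c)) = c
  rw [Scheme.Hom.appLE_comp_appLE]
  have : ∀ (m : Spec (CommRingCat.of k) ⟶ Spec (CommRingCat.of k)) (e : ⊤ ≤ m ⁻¹ᵁ ⊤), m = 𝟙 _ →
      m.appLE ⊤ ⊤ e = 𝟙 _ := by
    rintro m e rfl
    simp [Scheme.Hom.appLE]
  rw [this _ _ hx]
  exact Iso.inv_hom_id_apply (Scheme.ΓSpecIso (CommRingCat.of k)) c

theorem evalPt_res (x : Spec (CommRingCat.of k) ⟶ X) {U W : X.Opens} (hWU : W ≤ U)
    (h : x (IsLocalRing.closedPoint k) ∈ W) (s : Γ(X, U)) :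
    evalPt x W h (X.presheaf.map (homOfLE hWU).op s) = evalPt x U (hWU h) s := by
  show (Scheme.ΓSpecIso (CommRingCat.of k)).hom.hom ((X.presheaf.map (homOfLE hWU).op ≫ x.appLE W ⊤ _).hom s) = _
  rw [Scheme.Hom.map_appLE]
  rfl

theorem evalPt_comp (x : Spec (CommRingCat.of k) ⟶ X) (t : X ⟶ X) {V W : X.Opens} (e : W ≤ t ⁻¹ᵁ V)
    (h : x (IsLocalRing.closedPoint k) ∈ W) (s : Γ(X, V)) :
    evalPt x W h ((t.appLE V W e).hom s) =
      evalPt (x ≫ t) V (by rw [Scheme.Hom.comp_apply]; exact e h) s := by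
  show (Scheme.ΓSpecIso (CommRingCat.of k)).hom.hom ((t.appLE V W e ≫ x.appLE W ⊤ _).hom s) = _
  rw [Scheme.Hom.appLE_comp_appLE]
  rfl

theorem ext_evalPt {x y : Spec (CommRingCat.of k) ⟶ X} {U : X.Opens} (hU : IsAffineOpen U)
    (hx : x (IsLocalRing.closedPoint k) ∈ U) (hy : y (IsLocalRing.closedPoint k) ∈ U)
    (h : evalPt x U hx = evalPt y U hy) : x = y := by
  have key : ∀ (z : Spec (CommRingCat.of k) ⟶ X) (e : ⊤ ≤ z ⁻¹ᵁ U),
      (isAffineOpen_top (Spec (CommRingCat.of k))).fromSpec ≫ z = Spec.map (z.appLE U ⊤ e) ≫ hU.fromSpec :=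
    fun z e => (IsAffineOpen.SpecMap_appLE_fromSpec z hU _ e).symm
  have e1 : ⊤ ≤ x ⁻¹ᵁ U := fun z _ => by
    rw [show z = IsLocalRing.closedPoint k from Subsingleton.elim (α := PrimeSpectrum k) _ _]; exact hx
  have e2 : ⊤ ≤ y ⁻¹ᵁ U := fun z _ => by
    rw [show z = IsLocalRing.closedPoint k from Subsingleton.elim (α := PrimeSpectrum k) _ _]; exact hy
  haveI : IsIso (isAffineOpen_top (Spec (CommRingCat.of k))).fromSpec := by
    rw [IsAffineOpen.fromSpec_top]; infer_instance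
  rw [← cancel_epi (isAffineOpen_top (Spec (CommRingCat.of k))).fromSpec, key x e1, key y e2]
  have h12 : x.appLE U ⊤ e1 = y.appLE U ⊤ e2 := by
    refine CommRingCat.hom_ext (RingHom.ext fun s => ?_)
    exact (ConcreteCategory.bijective_of_isIso (Scheme.ΓSpecIso (CommRingCat.of k)).hom).1 (RingHom.congr_fun h s)
  rw [h12]

variable (f)

/-- Coordinates on an affine open. -/
theorem exists_gens [LocallyOfFiniteType f] {U : X.Opens} (hU : IsAffineOpen U) :
    ∃ (n : ℕ) (g : Fin n → Γ(X, U)), ∀ s, ∃ P : MvPolynomial (Fin n) k, MvPolynomial.eval₂ (cst f U) g P = s := by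
  have hft : (cst f U).FiniteType := by
    refine RingHom.FiniteType.comp ?_ (RingHom.FiniteType.of_surjective _
      (ConcreteCategory.bijective_of_isIso (Scheme.ΓSpecIso (CommRingCat.of k)).inv).2)
    exact (HasRingHomProperty.appLE @LocallyOfFiniteType f inferInstance ⟨⊤, isAffineOpen_top _⟩ ⟨U, hU⟩ _)
  letI := (cst f U).toAlgebra
  haveI : Algebra.FiniteType k Γ(X, U) := hft
  obtain ⟨n, φ, hφ⟩ := Algebra.FiniteType.iff_quotient_mvPolynomial''.1 this
  refine ⟨n, fun i => φ (MvPolynomial.X i), fun s => ?_⟩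
  obtain ⟨P, rfl⟩ := hφ s
  refine ⟨P, ?_⟩
  conv_rhs => rw [MvPolynomial.aeval_unique φ, MvPolynomial.aeval_def]
  rfl

theorem mem_of_eval₂ {n : ℕ} {U : X.Opens} (g : Fin n → Γ(X, U)) {F : Subfield k} {P : MvPolynomial (Fin n) k}
    (hP : ∀ m, P.coeff m ∈ F) {x : Spec (CommRingCat.of k) ⟶ X} (hx : x ≫ f = 𝟙 _)
    (h : x (IsLocalRing.closedPoint k) ∈ U) (hg : ∀ i, evalPt x U h (g i) ∈ F) :
    evalPt x U h (MvPolynomial.eval₂ (cst f U) g P) ∈ F := by
  rw [MvPolynomial.eval₂_eq, map_sum]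
  refine sum_mem fun m _ => ?_
  rw [map_mul, evalPt_cst hx, map_prod]
  refine mul_mem (hP m) (prod_mem fun i _ => ?_)
  rw [map_pow]
  exact pow_mem (hg i) _

/-- Images of points with coordinates in a large finite subfield have coordinates there. -/
theorem exists_finset_step [LocallyOfFiniteType f] [QuasiCompact f] (t : X ⟶ X) {U V : X.Opens}
    (hU : IsAffineOpen U) {n m : ℕ} (g : Fin n → Γ(X, U))
    (hg : ∀ s, ∃ P : MvPolynomial (Fin n) k, MvPolynomial.eval₂ (cst f U) g P = s) (g' : Fin m → Γ(X, V)) :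
    ∃ c : Finset k, ∀ F : Subfield k, (↑c : Set k) ⊆ F → ∀ (x : Spec (CommRingCat.of k) ⟶ X), x ≫ f = 𝟙 _ →
      ∀ (h : x (IsLocalRing.closedPoint k) ∈ U) (h' : (x ≫ t) (IsLocalRing.closedPoint k) ∈ V),
        (∀ i, evalPt x U h (g i) ∈ F) → ∀ l, evalPt (x ≫ t) V h' (g' l) ∈ F := by
  classical
  haveI : IsLocallyNoetherian X := LocallyOfFiniteType.isLocallyNoetherian f
  haveI : CompactSpace X := QuasiCompact.compactSpace_of_compactSpace f
  haveI : IsNoetherian X := {}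
  have hc : IsCompact ((U ⊓ t ⁻¹ᵁ V : X.Opens) : Set X) := TopologicalSpace.NoetherianSpace.isCompact _
  have hcov : ∀ z : (U ⊓ t ⁻¹ᵁ V : X.Opens), ∃ s : Γ(X, U), X.basicOpen s ≤ t ⁻¹ᵁ V ∧ z.1 ∈ X.basicOpen s := by
    rintro ⟨z, hzU, hzV⟩
    obtain ⟨s, hs, hzs⟩ := hU.exists_basicOpen_le ⟨z, hzV⟩ hzU
    exact ⟨s, hs, hzs⟩
  choose s hsV hzs using hcov
  obtain ⟨T, hT⟩ := hc.elim_finite_subcover (fun z => (X.basicOpen (s z) : Set X)) (fun z => (X.basicOpen (s z)).isOpen)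
    (fun z hz => Set.mem_iUnion.2 ⟨⟨z, hz⟩, hzs _⟩)
  have hfrac : ∀ z l, ∃ (a b : MvPolynomial (Fin n) k) (e : ℕ), MvPolynomial.eval₂ (cst f U) g b = s z ∧
      (t.appLE V (X.basicOpen (s z)) (hsV z)).hom (g' l) *
        (X.presheaf.map (homOfLE (X.basicOpen_le (s z))).op (MvPolynomial.eval₂ (cst f U) g b)) ^ e =
        X.presheaf.map (homOfLE (X.basicOpen_le (s z))).op (MvPolynomial.eval₂ (cst f U) g a) := by
    intro z l
    haveI := hU.isLocalization_basicOpen (s z)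
    obtain ⟨⟨r, q, ⟨e, rfl⟩⟩, hrq⟩ := IsLocalization.surj (Submonoid.powers (s z))
      ((t.appLE V (X.basicOpen (s z)) (hsV z)).hom (g' l))
    obtain ⟨a, rfl⟩ := hg r
    obtain ⟨b, hb⟩ := hg (s z)
    refine ⟨a, b, e, hb, ?_⟩
    rw [hb, ← map_pow]
    exact hrq
  choose a b e hb hrel using hfrac
  let co : MvPolynomial (Fin n) k → Finset k := fun P => P.support.image fun i => P.coeff i
  refine ⟨T.biUnion fun z => Finset.univ.biUnion fun l => co (a z l) ∪ co (b z l), fun F hF x hx h h' hgx l => ?_⟩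
  obtain ⟨z, hz, hxz⟩ : ∃ z ∈ T, x (IsLocalRing.closedPoint k) ∈ X.basicOpen (s z) := by
    have := hT (show x (IsLocalRing.closedPoint k) ∈ ((U ⊓ t ⁻¹ᵁ V : X.Opens) : Set X) from
      ⟨h, by rw [Scheme.Hom.comp_apply] at h'; exact h'⟩)
    simpa using this
  have hco : ∀ P : MvPolynomial (Fin n) k, co P ⊆ co (a z l) ∪ co (b z l) → ∀ i, P.coeff i ∈ F := by
    intro P hP i
    by_cases hi : i ∈ P.support
    · refine hF (Finset.mem_biUnion.2 ⟨z, hz, Finset.mem_biUnion.2 ⟨l, Finset.mem_univ _, hP ?_⟩⟩)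
      exact Finset.mem_image.2 ⟨i, hi, rfl⟩
    · rw [MvPolynomial.notMem_support_iff.1 hi]; exact zero_mem _
  have hA := mem_of_eval₂ f g (hco (a z l) Finset.subset_union_left) hx h hgx
  have hB := mem_of_eval₂ f g (hco (b z l) Finset.subset_union_right) hx h hgx
  have key := congrArg (evalPt x (X.basicOpen (s z)) hxz) (hrel z l)
  rw [map_mul, map_pow, evalPt_res, evalPt_res, evalPt_comp] at key
  have hne : evalPt x U h (MvPolynomial.eval₂ (cst f U) g (b z l)) ≠ 0 := by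
    rw [hb, ← evalPt_res x (X.basicOpen_le (s z)) hxz]
    exact (RingedSpace.isUnit_res_basicOpen X.toRingedSpace (s z)).map (evalPt x _ hxz) |>.ne_zero
  have : evalPt (x ≫ t) V h' (g' l) =
      evalPt x U h (MvPolynomial.eval₂ (cst f U) g (a z l)) / evalPt x U h (MvPolynomial.eval₂ (cst f U) g (b z l)) ^ e z l :=
    (eq_div_iff (pow_ne_zero _ hne)).2 key
  rw [this]
  exact div_mem hA (pow_mem hB _)

variable {p : ℕ} [Fact p.Prime] [CharP k p] (halg : ∀ x : k, ∃ n : ℕ, 0 < n ∧ x ^ p ^ n = x)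
include halg

theorem exists_finite_subfield (c : Finset k) : ∃ F : Subfield k, (↑c : Set k) ⊆ F ∧ (F : Set k).Finite := by
  classical
  choose n hn0 hn using halg
  let N := ∏ x ∈ c, n x
  have hN : 0 < N := Finset.prod_pos fun x _ => hn0 x
  let F := (iterateFrobenius k p N).eqLocusField (RingHom.id k)
  refine ⟨F, fun x hx => ?_, ?_⟩
  · obtain ⟨d, hd⟩ : n x ∣ N := Finset.dvd_prod_of_mem n hx
    show x ^ p ^ N = x
    rw [hd]
    clear hd
    induction d with
    | zero => simp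
    | succ d ih => rw [Nat.mul_succ, pow_add, pow_mul, ih, hn x]
  · have hp : 1 < p := (Fact.out : p.Prime).one_lt
    have hne : (Polynomial.X ^ (p ^ N) - Polynomial.X : Polynomial k) ≠ 0 :=
      FiniteField.X_pow_card_pow_sub_X_ne_zero k hN.ne' hp
    refine (Polynomial.finite_setOfPred_isRoot hne).subset fun x hx => ?_
    have hx' : x ^ p ^ N = x := hx
    show Polynomial.IsRoot _ x
    simp [hx']

/-- Over an algebraic extension of a finite field the orbit of a rational point under a self-map is finite. -/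
theorem finite_orbit [LocallyOfFiniteType f] [QuasiCompact f] (t : X ⟶ X) (ht : t ≫ f = f)
    (e : Spec (CommRingCat.of k) ⟶ X) (he : e ≫ f = 𝟙 _) :
    ∃ S : Set (Spec (CommRingCat.of k) ⟶ X), S.Finite ∧ e ∈ S ∧ ∀ x ∈ S, x ≫ t ∈ S := by
  classical
  haveI : CompactSpace X := QuasiCompact.compactSpace_of_compactSpace f
  have hcov : ∀ z : X, ∃ U : X.Opens, IsAffineOpen U ∧ z ∈ U := fun z =>
    let ⟨U, hU, hz, _⟩ := exists_isAffineOpen_mem_and_subset (U := ⊤) (x := z) trivial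
    ⟨U, hU, hz⟩
  choose U hU hzU using hcov
  obtain ⟨T, hT⟩ := isCompact_univ.elim_finite_subcover (fun z => (U z : Set X)) (fun z => (U z).isOpen)
    (fun z _ => Set.mem_iUnion.2 ⟨z, hzU z⟩)
  have hmem : ∀ z : X, ∃ i ∈ T, z ∈ U i := fun z => by simpa using hT (Set.mem_univ z)
  choose n g hg using fun z => exists_gens f (hU z)
  choose c hc using fun i j => exists_finset_step f t (hU i) (g i) (hg i) (g j)
  obtain ⟨i₀, hi₀, he₀⟩ := hmem (e (IsLocalRing.closedPoint k))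
  obtain ⟨F, hF, hFfin⟩ := exists_finite_subfield halg
    ((T.biUnion fun i => T.biUnion fun j => c i j) ∪ Finset.univ.image fun l => evalPt e (U i₀) he₀ (g i₀ l))
  haveI : Finite F := hFfin.to_subtype
  let S : Set (Spec (CommRingCat.of k) ⟶ X) :=
    {x | x ≫ f = 𝟙 _ ∧ ∃ i, ∃ (_ : i ∈ T) (h : x (IsLocalRing.closedPoint k) ∈ U i), ∀ l, evalPt x (U i) h (g i l) ∈ F}
  refine ⟨S, ?_, ⟨he, i₀, hi₀, he₀, fun l => hF (by simp)⟩, ?_⟩
  · have hsub : S ⊆ ⋃ i ∈ T, {x | x ≫ f = 𝟙 _ ∧ ∃ h : x (IsLocalRing.closedPoint k) ∈ U i,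
        ∀ l, evalPt x (U i) h (g i l) ∈ F} := by
      rintro x ⟨hx, i, hi, h⟩
      exact Set.mem_biUnion hi ⟨hx, h⟩
    refine (T.finite_toSet.biUnion fun i _ => ?_).subset hsub
    rw [Set.finite_coe_iff.symm]
    refine Finite.of_injective (β := Fin (n i) → F)
      (fun x l => ⟨evalPt x.1 (U i) x.2.2.choose (g i l), x.2.2.choose_spec l⟩) fun x y hxy => Subtype.ext ?_
    refine ext_evalPt (hU i) x.2.2.choose y.2.2.choose (RingHom.ext fun s => ?_)
    obtain ⟨P, rfl⟩ := hg i s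
    rw [MvPolynomial.eval₂_comp_left, MvPolynomial.eval₂_comp_left]
    congr 1
    · ext r; simp only [RingHom.comp_apply, evalPt_cst x.2.1, evalPt_cst y.2.1]
    · funext l; exact congrArg (fun v : Fin (n i) → F => (v l).1) hxy
  · rintro x ⟨hx, i, hi, h, hgx⟩
    refine ⟨by rw [Category.assoc, ht, hx], ?_⟩
    obtain ⟨j, hj, hxj⟩ := hmem ((x ≫ t) (IsLocalRing.closedPoint k))
    exact ⟨j, hj, hxj, hc i j F (fun r hr => hF (Finset.mem_union_left _
      (Finset.mem_biUnion.2 ⟨i, hi, Finset.mem_biUnion.2 ⟨j, hj, hr⟩⟩))) x hx h hxj hgx⟩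

end AlbNormLib

end
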