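import Groth.Agent.AVAmpleLib.Dense
import Groth.Agent.AVAmpleLib.ReducedSub
import Groth.Agent.CubeConsLib.Defect2
import Groth.Agent.FibDimLib.ClosureDim
import Groth.Agent.AlbLib.AVBasic
import Groth.Agent.AlbLib.AlgClosed

/-!
The subgroup generated by an irreducible closed set killed by a homomorphism on points.
-/

set_option autoImplicit false
set_option linter.style.haveILetI false
set_option backward.isDefEq.respectTransparency false
set_option maxHeartbeats 1000000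

noncomputable section

universe u v

open CategoryTheory CategoryTheory.Limits MonoidalCategory CartesianMonoidalCategory MonObj AlgebraicGeometry
open Groth.Agent

namespace AlbNormLib

variable {K : Type u} [Field K] [IsAlgClosed K]

theorem exists_closed_sub_integral {A : Over (Spec (CommRingCat.of K))} [IsProper A.hom] {W : Set A.left}
    (hW : IsClosed W) (hWi : IsIrreducible W) :
    ∃ (Z : Over (Spec (CommRingCat.of K))) (i : Z ⟶ A), IsClosedImmersion i.left ∧ IsProper Z.hom ∧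
      GeometricallyIntegral Z.hom ∧ Set.range i.left = W := by
  let I := Scheme.IdealSheafData.vanishingIdeal (⟨W, hW⟩ : TopologicalSpace.Closeds A.left)
  haveI : IsReduced I.subscheme := DevissLib.isReduced_vanishingIdeal' _
  have hr : Set.range I.subschemeι = W := by
    rw [Scheme.IdealSheafData.range_subschemeι, Scheme.IdealSheafData.coe_support_vanishingIdeal]
    rfl
  let Z : Over (Spec (CommRingCat.of K)) := Over.mk (I.subschemeι ≫ A.hom)
  haveI : IsProper Z.hom := inferInstanceAs (IsProper (I.subschemeι ≫ A.hom))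
  haveI : IsReduced Z.left := inferInstanceAs (IsReduced I.subscheme)
  haveI : IrreducibleSpace I.subscheme := by
    haveI : PreirreducibleSpace I.subscheme := ⟨by
      intro u v hu hv ⟨a, _, ha⟩ ⟨b, _, hb⟩
      obtain ⟨u', hu', rfl⟩ := (I.subschemeι.isEmbedding.isInducing.isOpen_iff).1 hu
      obtain ⟨v', hv', rfl⟩ := (I.subschemeι.isEmbedding.isInducing.isOpen_iff).1 hv
      obtain ⟨c, hc, hcu, hcv⟩ := hWi.2 u' v' hu' hv' ⟨_, hr ▸ ⟨a, rfl⟩, ha⟩ ⟨_, hr ▸ ⟨b, rfl⟩, hb⟩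
      obtain ⟨d, rfl⟩ := hr.symm.subset hc
      exact ⟨d, trivial, hcu, hcv⟩⟩
    exact { toNonempty := ⟨(hr.symm.subset hWi.nonempty.some_mem).choose⟩ }
  haveI : IrreducibleSpace Z.left := ‹IrreducibleSpace I.subscheme›
  haveI : IsIntegral Z.left := isIntegral_of_irreducibleSpace_of_isReduced _
  haveI : GeometricallyIntegral Z.hom := AlbLib.geometricallyIntegral_of_isIntegral Z
  exact ⟨Z, Over.homMk I.subschemeι rfl, inferInstanceAs (IsClosedImmersion I.subschemeι), inferInstance,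
    inferInstance, hr⟩

variable {A : Over (Spec (CommRingCat.of K))} [GrpObj A] [IsProper A.hom]
  {G : Type v} [Group G] (f : (𝟙_ (Over (Spec (CommRingCat.of K))) ⟶ A) →* G)

/-- The closed irreducible sets through the unit whose points are killed. -/
def Killed (W : Set A.left) : Prop :=
  IsClosed W ∧ IsIrreducible W ∧ AVAmpleLib.pt (1 : 𝟙_ (Over (Spec (CommRingCat.of K))) ⟶ A) ∈ W ∧
    ∀ a, AVAmpleLib.pt a ∈ W → f a = 1

theorem exists_mul {W₁ W₂ : Set A.left} (h₁ : Killed f W₁) (h₂ : Killed f W₂) :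
    ∃ W, Killed f W ∧ W₁ ⊆ W ∧ W₂ ⊆ W ∧
      ∀ a b, AVAmpleLib.pt a ∈ W₁ → AVAmpleLib.pt b ∈ W₂ → AVAmpleLib.pt (a * b) ∈ W := by
  obtain ⟨Z₁, i₁, _, _, _, hr₁⟩ := exists_closed_sub_integral h₁.1 h₁.2.1
  obtain ⟨Z₂, i₂, _, _, _, hr₂⟩ := exists_closed_sub_integral h₂.1 h₂.2.1
  haveI : Flat Z₁.hom := GrpField.flat_field _
  haveI : Flat Z₂.hom := GrpField.flat_field _
  haveI : LocallyOfFinitePresentation Z₁.hom := LocallyOfFinitePresentation.iff_locallyOfFiniteType.2 inferInstance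
  haveI : LocallyOfFinitePresentation Z₂.hom := LocallyOfFinitePresentation.iff_locallyOfFiniteType.2 inferInstance
  haveI : IsProper (Z₁ ⊗ Z₂).hom := by rw [Over.tensorObj_hom]; infer_instance
  haveI : GeometricallyIntegral (Z₁ ⊗ Z₂).hom := CubeConsLib.geometricallyIntegral_prod Z₁.hom Z₂.hom
  haveI : IsIntegral (Z₁ ⊗ Z₂).left := GeometricallyIntegral.isIntegral_of_subsingleton (Z₁ ⊗ Z₂).hom
  let m : Z₁ ⊗ Z₂ ⟶ A := (fst Z₁ Z₂ ≫ i₁) * (snd Z₁ Z₂ ≫ i₂)
  haveI : IsProper m.left := by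
    haveI : IsProper (m.left ≫ A.hom) := by rw [Over.w m]; infer_instance
    exact IsProper.of_comp m.left A.hom
  haveI : JacobsonSpace (Z₁ ⊗ Z₂).left := LocallyOfFiniteType.jacobsonSpace (Z₁ ⊗ Z₂).hom
  have hfac : ∀ (Z : Over (Spec (CommRingCat.of K))) (i : Z ⟶ A) (_ : IsClosedImmersion i.left)
      (a : 𝟙_ (Over (Spec (CommRingCat.of K))) ⟶ A), AVAmpleLib.pt a ∈ Set.range i.left →
      ∃ z, z ≫ i = a := by
    intro Z i _ a ha
    haveI : IsReduced (𝟙_ (Over (Spec (CommRingCat.of K)))).left := inferInstanceAs (IsReduced (Spec (CommRingCat.of K)))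
    obtain ⟨l, hl⟩ := AVAmpleLib.exists_lift_of_reduced i.left a.left (by
      rintro _ ⟨w, rfl⟩
      rw [Subsingleton.elim (α := PrimeSpectrum K) w (IsLocalRing.closedPoint K)]
      exact ha)
    exact ⟨Over.homMk l (by rw [← Over.w a, ← hl, Category.assoc, Over.w i]), Over.OverMorphism.ext hl⟩
  have hmem : ∀ a b, AVAmpleLib.pt a ∈ W₁ → AVAmpleLib.pt b ∈ W₂ → AVAmpleLib.pt (a * b) ∈ Set.range m.left := by
    intro a b ha hb
    obtain ⟨za, rfl⟩ := hfac Z₁ i₁ inferInstance a (hr₁.symm ▸ ha)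
    obtain ⟨zb, rfl⟩ := hfac Z₂ i₂ inferInstance b (hr₂.symm ▸ hb)
    refine ⟨(lift za zb).left (IsLocalRing.closedPoint K), ?_⟩
    show ((lift za zb) ≫ m).left _ = _
    simp only [m, MonObj.comp_mul, lift_fst_assoc, lift_snd_assoc]
    rfl
  have hW : IsClosed (Set.range m.left) := m.left.isClosedMap.isClosed_range
  refine ⟨Set.range m.left, ⟨hW, ?_, ?_, ?_⟩, ?_, ?_, hmem⟩
  · rw [← Set.image_univ]
    exact (IrreducibleSpace.isIrreducible_univ _).image _ m.left.continuous.continuousOn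
  · have h' := hmem 1 1 h₁.2.2.1 h₂.2.2.1
    rwa [_root_.one_mul] at h'
  · intro c hc
    haveI : IsClosedImmersion c.left :=
      isClosedImmersion_of_comp_eq_id A.hom c.left (Over.w c)
    have hcl : IsClosed ({AVAmpleLib.pt c} : Set A.left) := by
      rw [← AVAmpleLib.range_pt c]; exact c.left.isClosedEmbedding.isClosed_range
    obtain ⟨w, hw, hwc⟩ := nonempty_inter_closedPoints (X := (Z₁ ⊗ Z₂).left) (Z := m.left ⁻¹' {AVAmpleLib.pt c})
      (by obtain ⟨w, hw⟩ := hc; exact ⟨w, hw⟩) (hcl.preimage m.left.continuous).isLocallyClosed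
    let z : 𝟙_ (Over (Spec (CommRingCat.of K))) ⟶ Z₁ ⊗ Z₂ :=
      Over.homMk (pointOfClosedPoint (Z₁ ⊗ Z₂).hom w hwc) (pointOfClosedPoint_comp _ _ _)
    have hz : z ≫ m = c := Over.OverMorphism.ext (ext_of_apply_closedPoint_eq A.hom (Over.w _) (Over.w _) (by
      show (pointOfClosedPoint (Z₁ ⊗ Z₂).hom w hwc ≫ m.left) _ = _
      rw [Scheme.Hom.comp_apply, pointOfClosedPoint_apply]
      exact hw))
    rw [← hz]
    simp only [m, MonObj.comp_mul, map_mul]
    rw [h₁.2.2.2 _ (hr₁ ▸ ⟨_, rfl⟩), h₂.2.2.2 _ (hr₂ ▸ ⟨_, rfl⟩), _root_.mul_one]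
  · haveI : JacobsonSpace A.left := LocallyOfFiniteType.jacobsonSpace A.hom
    refine (closure_inter_closedPoints h₁.1).symm.subset.trans (closure_minimal ?_ hW)
    rintro x ⟨hx, hxc⟩
    obtain ⟨a, rfl⟩ := AVAmpleLib.exists_pt_eq (A := A) x hxc
    (have h' := hmem a 1 hx h₂.2.2.1; rwa [_root_.mul_one] at h')
  · haveI : JacobsonSpace A.left := LocallyOfFiniteType.jacobsonSpace A.hom
    refine (closure_inter_closedPoints h₂.1).symm.subset.trans (closure_minimal ?_ hW)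
    rintro x ⟨hx, hxc⟩
    obtain ⟨a, rfl⟩ := AVAmpleLib.exists_pt_eq (A := A) x hxc
    (have h' := hmem 1 a h₁.2.2.1 hx; rwa [_root_.one_mul] at h')

theorem exists_inv {W : Set A.left} (h : Killed f W) :
    ∃ W', Killed f W' ∧ ∀ a, AVAmpleLib.pt a ∈ W → AVAmpleLib.pt a⁻¹ ∈ W' := by
  let n : A ⟶ A := (𝟙 A)⁻¹
  have hnn : n ≫ n = 𝟙 A := by simp only [n, GrpObj.inv_comp, GrpObj.comp_inv, Category.comp_id, inv_inv]
  have hpt : ∀ a : 𝟙_ (Over (Spec (CommRingCat.of K))) ⟶ A, n.left (AVAmpleLib.pt a) = AVAmpleLib.pt a⁻¹ := fun a => by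
    show (a ≫ n).left _ = _
    simp only [n, GrpObj.comp_inv, Category.comp_id]
    rfl
  have hnn' : ∀ x, n.left (n.left x) = x := fun x => by
    rw [← Scheme.Hom.comp_apply, ← Over.comp_left, hnn]; rfl
  refine ⟨n.left ⁻¹' W, ⟨h.1.preimage n.left.continuous, ?_, ?_, fun a ha => ?_⟩, fun a ha => ?_⟩
  · have : n.left ⁻¹' W = n.left '' W := by
      ext x
      exact ⟨fun hx => ⟨n.left x, hx, hnn' x⟩, by rintro ⟨y, hy, rfl⟩; show _ ∈ W; rwa [hnn']⟩
    rw [this]
    exact h.2.1.image _ n.left.continuous.continuousOn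
  · show n.left _ ∈ W
    rw [hpt, inv_one]; exact h.2.2.1
  · have := h.2.2.2 a⁻¹ (by rw [← hpt]; exact ha)
    rwa [map_inv, inv_eq_one] at this
  · show n.left _ ∈ W
    rw [hpt, inv_inv]; exact ha

/-- An irreducible closed killed set is contained in an integral killed closed subgroup. -/
theorem exists_killed_subgroup {V : Set A.left} (hV : Killed f V) :
    ∃ (B : Over (Spec (CommRingCat.of K))) (_ : GrpObj B) (incl : B ⟶ A), IsMonHom incl ∧
      IsClosedImmersion incl.left ∧ IsIntegral B.left ∧ V ⊆ Set.range incl.left ∧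
      ∀ b : 𝟙_ (Over (Spec (CommRingCat.of K))) ⟶ B, f (b ≫ incl) = 1 := by
  haveI : IsLocallyNoetherian A.left := LocallyOfFiniteType.isLocallyNoetherian A.hom
  haveI : JacobsonSpace A.left := LocallyOfFiniteType.jacobsonSpace A.hom
  let S : Set A.left := {z | ∃ W, Killed f W ∧ V ⊆ W ∧ IsGenericPoint z W}
  have hne : S.Nonempty := ⟨_, V, hV, subset_rfl, hV.2.1.isGenericPoint_genericPoint hV.1⟩
  obtain ⟨z, ⟨W, hW, hVW, hz⟩, hmin⟩ := WellFounded.has_min
    (InvImage.wf (fun z : A.left => ringKrullDim (A.left.presheaf.stalk z)) wellFounded_lt) S hne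
  have hmax : ∀ W', Killed f W' → W ⊆ W' → W' = W := by
    intro W' hW' hsub
    have hz' := hW'.2.1.isGenericPoint_genericPoint hW'.1
    have hsp : hW'.2.1.genericPoint ⤳ z := hz'.specializes (hsub hz.mem)
    by_cases he : hW'.2.1.genericPoint = z
    · rw [← hz'.def, he, hz.def]
    · exact absurd (FibDimLib.ringKrullDim_stalk_lt hsp he)
        (hmin _ ⟨W', hW', hVW.trans hsub, hz'⟩)
  have hmul : ∀ a b, AVAmpleLib.pt a ∈ W → AVAmpleLib.pt b ∈ W → AVAmpleLib.pt (a * b) ∈ W := by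
    obtain ⟨W', hW', hsub, -, hm⟩ := exists_mul f hW hW
    rwa [hmax W' hW' hsub] at hm
  have hinv : ∀ a, AVAmpleLib.pt a ∈ W → AVAmpleLib.pt a⁻¹ ∈ W := by
    obtain ⟨W₁, hW₁, hi⟩ := exists_inv f hW
    obtain ⟨W', hW', hsub, hsub₂, -⟩ := exists_mul f hW hW₁
    intro a ha
    rw [← hmax W' hW' hsub]
    exact hsub₂ (hi a ha)
  obtain ⟨B, _, i, hi, hicl, hBred, -, hr⟩ := AVAmpleLib.exists_reduced_subgroup
    {a : 𝟙_ (Over (Spec (CommRingCat.of K))) ⟶ A | AVAmpleLib.pt a ∈ W} hW.2.2.1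
    (fun a ha b hb => hmul a b ha hb) (fun a ha => hinv a ha)
  haveI := hicl; haveI := hBred
  have hrW : Set.range i.left = W := by
    rw [hr]
    refine subset_antisymm (closure_minimal (by rintro _ ⟨a, ha, rfl⟩; exact ha) hW.1) ?_
    refine (closure_inter_closedPoints hW.1).symm.subset.trans (closure_mono ?_)
    rintro x ⟨hx, hxc⟩
    obtain ⟨a, rfl⟩ := AVAmpleLib.exists_pt_eq (A := A) x hxc
    exact ⟨a, hx, rfl⟩
  haveI : IrreducibleSpace B.left := by
    haveI : PreirreducibleSpace B.left := ⟨by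
      intro u v hu hv ⟨a, _, ha⟩ ⟨b, _, hb⟩
      obtain ⟨u', hu', rfl⟩ := (i.left.isEmbedding.isInducing.isOpen_iff).1 hu
      obtain ⟨v', hv', rfl⟩ := (i.left.isEmbedding.isInducing.isOpen_iff).1 hv
      obtain ⟨c, hc, hcu, hcv⟩ := hW.2.1.2 u' v' hu' hv' ⟨_, hrW ▸ ⟨a, rfl⟩, ha⟩ ⟨_, hrW ▸ ⟨b, rfl⟩, hb⟩
      obtain ⟨d, rfl⟩ := hrW.symm.subset hc
      exact ⟨d, trivial, hcu, hcv⟩⟩
    exact { toNonempty := ⟨(hrW.symm.subset hW.2.2.1).choose⟩ }
  refine ⟨B, inferInstance, i, hi, hicl, isIntegral_of_irreducibleSpace_of_isReduced _, hrW ▸ hVW, fun b => ?_⟩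
  exact hW.2.2.2 _ (hrW ▸ ⟨AVAmpleLib.pt b, rfl⟩)

end AlbNormLib

end
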