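import Groth.Agent.AVAmpleLib.TruncPoint
import Groth.Agent.UnrStalkLib.Lifts
import Groth.Agent.WeilResLib.PowEtale

/-!
In characteristic `p` the infinitesimal neighbourhoods of the unit are killed by powers of `p`.
-/

set_option autoImplicit false
set_option linter.style.haveILetI false
set_option backward.isDefEq.respectTransparency false
set_option maxHeartbeats 1000000

noncomputable section

universe u

open CategoryTheory CategoryTheory.Limits MonoidalCategory CartesianMonoidalCategory MonObj AlgebraicGeometry IsLocalRing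

namespace AlbNormLib

variable (X : Scheme.{u}) (x : X)

/-- The ring of the `n`-th infinitesimal neighbourhood. -/
abbrev infRing (n : ℕ) : Type u := X.presheaf.stalk x ⧸ maximalIdeal (X.presheaf.stalk x) ^ n

/-- Its quotient map. -/
def infMk (n : ℕ) : X.presheaf.stalk x ⟶ CommRingCat.of (infRing X x n) :=
  CommRingCat.ofHom (Ideal.Quotient.mk _)

/-- The infinitesimal neighbourhood. -/
def inf (n : ℕ) : Spec (CommRingCat.of (infRing X x n)) ⟶ X := Spec.map (infMk X x n) ≫ X.fromSpecStalk x

instance nontrivial_infRing (n : ℕ) : Nontrivial (infRing X x (n + 1)) :=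
  Ideal.Quotient.nontrivial_iff.2 fun h => (IsLocalRing.maximalIdeal.isMaximal _).ne_top
    (eq_top_iff.2 (h ▸ Ideal.pow_le_self (Nat.succ_ne_zero n)))

instance isLocalRing_infRing (n : ℕ) : IsLocalRing (infRing X x (n + 1)) :=
  IsLocalRing.of_surjective' (Ideal.Quotient.mk _) Ideal.Quotient.mk_surjective

instance isLocalHom_infMk (n : ℕ) : IsLocalHom (infMk X x (n + 1)).hom :=
  .of_surjective (Ideal.Quotient.mk _) Ideal.Quotient.mk_surjective

theorem inf_closedPoint (n : ℕ) : inf X x (n + 1) (closedPoint (infRing X x (n + 1))) = x := by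
  rw [inf, Scheme.Hom.comp_apply]
  have h : Spec.map (infMk X x (n + 1)) (closedPoint (infRing X x (n + 1))) =
      closedPoint (X.presheaf.stalk x) := IsLocalRing.comap_closedPoint (infMk X x (n + 1)).hom
  rw [h, Scheme.fromSpecStalk_closedPoint]

/-- The restriction between the neighbourhoods. -/
def infRestrict {m n : ℕ} (h : m ≤ n) : Spec (CommRingCat.of (infRing X x m)) ⟶ Spec (CommRingCat.of (infRing X x n)) :=
  Spec.map (CommRingCat.ofHom (Ideal.Quotient.factor (Ideal.pow_le_pow_right h)))

theorem infRestrict_inf {m n : ℕ} (h : m ≤ n) : infRestrict X x h ≫ inf X x n = inf X x m := by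
  rw [infRestrict, inf, inf, ← Category.assoc, ← Spec.map_comp]
  congr 2

variable {X x}

/-- A closed subscheme containing all the infinitesimal neighbourhoods of a point of an integral scheme is everything. -/
theorem isIso_of_inf_factor [IsIntegral X] [IsLocallyNoetherian X] {Z : Scheme.{u}} (c : Z ⟶ X) [IsClosedImmersion c]
    (h : ∀ n, ∃ t, t ≫ c = inf X x n) : IsIso c := by
  obtain ⟨t₁, ht₁⟩ := h 1
  obtain ⟨z, rfl⟩ : ∃ z, c z = x := ⟨t₁ (closedPoint (infRing X x 1)), by
    rw [← Scheme.Hom.comp_apply, ht₁]; exact inf_closedPoint X x 0⟩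
  have hinj : Function.Injective (c.stalkMap z).hom := by
    rw [injective_iff_map_eq_zero]
    intro a ha
    have hmem : ∀ n, a ∈ maximalIdeal (X.presheaf.stalk (c z)) ^ (n + 1) := fun n => by
      obtain ⟨t, ht⟩ := h (n + 1)
      have htz : t (closedPoint (infRing X (c z) (n + 1))) = z := c.isClosedEmbedding.injective (by
        rw [← Scheme.Hom.comp_apply, ht]; exact inf_closedPoint X (c z) n)
      obtain ⟨ψ, hψ⟩ := UnrStalkLib.exists_stalk_factor t htz
      rw [← hψ, Category.assoc, ← Scheme.SpecMap_stalkMap_fromSpecStalk, ← Category.assoc, inf, cancel_mono,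
        ← Spec.map_comp] at ht
      have h1 := congrArg (fun f : X.presheaf.stalk (c z) ⟶ CommRingCat.of (infRing X (c z) (n + 1)) => f.hom a)
        (Spec.map_injective ht)
      simp only [CommRingCat.hom_comp, RingHom.comp_apply, ha, map_zero] at h1
      exact Ideal.Quotient.eq_zero_iff_mem.1 h1.symm
    haveI : IsNoetherianRing (X.presheaf.stalk (c z)) := inferInstance
    rw [← Ideal.mem_bot, ← Ideal.iInf_pow_eq_bot_of_isLocalRing (maximalIdeal (X.presheaf.stalk (c z)))
      (IsLocalRing.maximalIdeal.isMaximal _).ne_top, Ideal.mem_iInf]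
    intro n
    cases n with
    | zero => rw [pow_zero, Ideal.one_eq_top]; trivial
    | succ n => exact hmem n
  have hdense : DenseRange ⇑(Spec.map (c.stalkMap z)) := by
    refine (PrimeSpectrum.denseRange_comap_iff_ker_le_nilRadical (f := (c.stalkMap z).hom)).2 ?_
    rw [(RingHom.injective_iff_ker_eq_bot _).1 hinj]
    exact bot_le
  have hη : genericPoint X ∈ Set.range c := by
    obtain ⟨w, hw⟩ : genericPoint X ∈ Set.range (X.fromSpecStalk (c z)) := by
      rw [Scheme.range_fromSpecStalk]
      exact (genericPoint_spec X).specializes trivial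
    rw [← hw]
    have hcl := c.isClosedEmbedding.isClosed_range.preimage (X.fromSpecStalk (c z)).continuous
    refine hcl.closure_subset_iff.2 ?_ (hdense w)
    rintro _ ⟨q, rfl⟩
    exact ⟨Z.fromSpecStalk z q, by
      rw [← Scheme.Hom.comp_apply, ← Scheme.SpecMap_stalkMap_fromSpecStalk, Scheme.Hom.comp_apply]⟩
  haveI : Surjective c := ⟨fun y => by
    have := c.isClosedEmbedding.isClosed_range.closure_subset_iff.2 (Set.singleton_subset_iff.2 hη)
    exact this ((genericPoint_spec X).specializes trivial).mem_closure⟩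
  exact isIso_of_isClosedImmersion_of_surjective c

variable {K : Type u} [Field K] (A : Over (Spec (CommRingCat.of K))) [GrpObj A]

/-- The unit point of the underlying space. -/
abbrev ePt : A.left := η[A].left (closedPoint K)

/-- The infinitesimal neighbourhoods of the unit, over the field. -/
abbrev infOver (n : ℕ) : Over (Spec (CommRingCat.of K)) := Over.mk (inf A.left (ePt A) n ≫ A.hom)

/-- Their inclusion. -/
abbrev infHom (n : ℕ) : infOver A n ⟶ A := Over.homMk (inf A.left (ePt A) n) rfl

theorem infHom_one : infHom A 1 = 1 := by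
  let e : Spec (CommRingCat.of K) ⟶ A.left := η[A].left
  let ρ : A.left.presheaf.stalk (ePt A) →+* K := (Scheme.stalkClosedPointTo e).hom
  haveI : IsLocalHom ρ := Scheme.isLocalHom_stalkClosedPointTo e
  have hsurj : Function.Surjective ρ := by
    have h := WeilResLib.surjective_stalkClosedPointTo_id (e ≫ A.hom) (Over.w η[A])
    rw [Scheme.stalkClosedPointTo_comp, CommRingCat.hom_comp] at h
    exact fun b => let ⟨a, ha⟩ := h b; ⟨_, ha⟩
  have hker : RingHom.ker ρ ≤ RingHom.ker (infMk A.left (ePt A) 1).hom := fun a ha => by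
    refine Ideal.Quotient.eq_zero_iff_mem.2 ?_
    rw [pow_one]
    exact (mem_maximalIdeal _).2 fun hu => (hu.map ρ).ne_zero ha
  let r : CommRingCat.of K ⟶ CommRingCat.of (infRing A.left (ePt A) 1) :=
    CommRingCat.ofHom (RingHom.liftOfSurjective ρ hsurj ⟨(infMk A.left (ePt A) 1).hom, hker⟩)
  have hr : Scheme.stalkClosedPointTo e ≫ r = infMk A.left (ePt A) 1 := by
    ext a
    exact RingHom.liftOfRightInverse_comp_apply _ _ (Function.rightInverse_surjInv hsurj) ⟨_, hker⟩ a
  have he : inf A.left (ePt A) 1 = Spec.map r ≫ e := by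
    rw [inf, ← hr, Spec.map_comp, Category.assoc]
    exact congrArg (Spec.map r ≫ ·) (Scheme.Spec_stalkClosedPointTo_fromSpecStalk e)
  ext1
  rw [Hom.one_def, Over.comp_left]
  show inf A.left (ePt A) 1 = (inf A.left (ePt A) 1 ≫ A.hom) ≫ e
  rw [he, Category.assoc (Spec.map r), show e ≫ A.hom = 𝟙 _ from Over.w η[A], Category.comp_id]

variable [IsCommMonObj A] (p : ℕ) (hp : (p : K) = 0)
include hp

theorem infHom_two_pow (j : ℕ) : infHom A (2 ^ j) ^ (p ^ j) = 1 := by
  induction j with
  | zero => rw [pow_zero, pow_zero, pow_one]; exact infHom_one A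
  | succ j ih =>
    let m := maximalIdeal (A.left.presheaf.stalk (ePt A))
    let R₂ := infRing A.left (ePt A) (2 ^ (j + 1))
    let I : Ideal R₂ := (m ^ (2 ^ j)).map (Ideal.Quotient.mk (m ^ (2 ^ (j + 1))))
    have hI : I ^ 2 = ⊥ := by
      rw [← Ideal.map_pow, ← pow_mul, ← pow_succ, eq_bot_iff, Ideal.map_le_iff_le_comap]
      exact fun a ha => Ideal.Quotient.eq_zero_iff_mem.2 ha
    let q : CommRingCat.of R₂ ⟶ CommRingCat.of (R₂ ⧸ I) := CommRingCat.ofHom (Ideal.Quotient.mk I)
    let T' : Over (Spec (CommRingCat.of K)) := Over.mk (Spec.map q ≫ (infOver A (2 ^ (j + 1))).hom)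
    let g : T' ⟶ infOver A (2 ^ (j + 1)) := Over.homMk (Spec.map q) rfl
    let l : CommRingCat.of (infRing A.left (ePt A) (2 ^ j)) ⟶ CommRingCat.of (R₂ ⧸ I) :=
      CommRingCat.ofHom (Ideal.Quotient.lift _ ((Ideal.Quotient.mk I).comp (Ideal.Quotient.mk _))
        fun a ha => Ideal.Quotient.eq_zero_iff_mem.2 (Ideal.mem_map_of_mem _ ha))
    have hl : Spec.map l ≫ inf A.left (ePt A) (2 ^ j) = Spec.map q ≫ inf A.left (ePt A) (2 ^ (j + 1)) := by
      rw [inf, inf, ← Spec.map_comp_assoc, ← Spec.map_comp_assoc]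
      rfl
    let h : T' ⟶ infOver A (2 ^ j) := Over.homMk (Spec.map l) (by
      show Spec.map l ≫ inf _ _ _ ≫ A.hom = Spec.map q ≫ inf _ _ _ ≫ A.hom
      rw [← Category.assoc, hl, Category.assoc])
    have hgh : g ≫ infHom A (2 ^ (j + 1)) = h ≫ infHom A (2 ^ j) := Over.OverMorphism.ext hl.symm
    let b : infOver A (2 ^ (j + 1)) ⟶ A := infHom A (2 ^ (j + 1)) ^ (p ^ j)
    have hb : g ≫ b = g ≫ 1 := by
      rw [MonObj.comp_pow, hgh, ← MonObj.comp_pow, ih, MonObj.comp_one, MonObj.comp_one]
    obtain ⟨V, hV, heV, -⟩ := exists_isAffineOpen_mem_and_subset (U := ⊤) (x := ePt A) trivial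
    have hst : ((p : ℤ) : R₂) = 0 := by
      rw [Int.cast_natCast, ← map_natCast (Spec.preimage (inf A.left (ePt A) (2 ^ (j + 1)) ≫ A.hom)).hom p]
      have : ((p : CommRingCat.of K)) = 0 := hp
      rw [this, map_zero]
    have hfin := AbSchLib.zpow_eq_one_of_cast_eq_zero_affine I hI _ b hV.fromSpec (by
      rw [hV.range_fromSpec]
      exact (AVAmpleLib.range_one_subset A).trans (Set.singleton_subset_iff.2 heV))
      (congrArg Over.Hom.left hb) (p : ℤ) hst
    rw [zpow_natCast] at hfin
    rw [pow_succ p, pow_mul]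
    exact hfin

/-- In characteristic `p` every infinitesimal neighbourhood of the unit is killed by a power of `p`. -/
theorem exists_infHom_pow_eq_one (n : ℕ) : ∃ j, infHom A n ^ (p ^ (j + 1)) = 1 := by
  refine ⟨n, ?_⟩
  let h : infOver A n ⟶ infOver A (2 ^ (n + 1)) :=
    Over.homMk (infRestrict A.left (ePt A) ((Nat.le_succ n).trans Nat.lt_two_pow_self.le)) (by
      show _ ≫ inf _ _ _ ≫ A.hom = _
      rw [← Category.assoc, infRestrict_inf]
      rfl)
  have : infHom A n = h ≫ infHom A (2 ^ (n + 1)) := Over.OverMorphism.ext (infRestrict_inf A.left (ePt A)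
    ((Nat.le_succ n).trans Nat.lt_two_pow_self.le)).symm
  rw [this, ← MonObj.comp_pow, infHom_two_pow A p hp, MonObj.comp_one]

end AlbNormLib

end
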