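import Groth.Agent.AlbNormLib.LangMap
import Groth.Agent.MonoQuotLib.Orbit
import Groth.Prelude

/-!
Torsors under connected smooth affine groups over finite fields have rational points.
-/

set_option autoImplicit false
set_option linter.style.haveILetI false
set_option backward.isDefEq.respectTransparency false
set_option maxHeartbeats 1000000

noncomputable section

universe u

open CategoryTheory CategoryTheory.Limits MonoidalCategory CartesianMonoidalCategory MonObj AlgebraicGeometry FrobSch
open Groth.Agent AVAmpleLib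

namespace AlbNormLib

attribute [-instance] CategoryTheory.Hom.commGroup

open Polynomial in
/-- The elements fixed by the power map of the cardinality lie in the finite field. -/
theorem mem_range_of_pow_card_eq {k Ω : Type u} [Field k] [Finite k] [Field Ω] [Algebra k Ω] {z : Ω}
    (hz : z ^ Nat.card k = z) : z ∈ (algebraMap k Ω).range := by
  classical
  haveI := Fintype.ofFinite k
  rw [Nat.card_eq_fintype_card] at hz
  by_contra hnot
  let P : Polynomial Ω := Polynomial.X ^ Fintype.card k - Polynomial.X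
  have hP0 : P ≠ 0 := FiniteField.X_pow_card_sub_X_ne_zero Ω Fintype.one_lt_card
  have hdeg : P.natDegree = Fintype.card k := FiniteField.X_pow_card_sub_X_natDegree_eq Ω Fintype.one_lt_card
  have hsub : insert z (Finset.univ.image (algebraMap k Ω)) ⊆ P.roots.toFinset := by
    intro w hw
    rw [Finset.mem_insert] at hw
    rw [Multiset.mem_toFinset, mem_roots hP0, IsRoot, eval_sub, eval_pow, eval_X, sub_eq_zero]
    rcases hw with rfl | hw
    · exact hz
    · obtain ⟨a, -, rfl⟩ := Finset.mem_image.1 hw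
      rw [← map_pow, FiniteField.pow_card]
  have h1 : (insert z (Finset.univ.image (algebraMap k Ω))).card = Fintype.card k + 1 := by
    rw [Finset.card_insert_of_notMem (by simpa [RingHom.mem_range] using hnot),
      Finset.card_image_of_injective _ (algebraMap k Ω).injective, Finset.card_univ]
  have h2 := ((Finset.card_le_card hsub).trans P.roots.toFinset_card_le).trans P.card_roots'
  omega

/-- A torsor under a connected smooth affine group over a finite field has a rational point. -/
theorem exists_torsor_point {k : Type u} [Field k] [Finite k] {G : Over (Spec (CommRingCat.of k))} [GrpObj G]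
    [IsAffine G.left] [Smooth G.hom] [ConnectedSpace G.left] {X : Over (Spec (CommRingCat.of k))}
    [LocallyOfFiniteType X.hom] [Nonempty X.left] (a : AlgGrp.Action G X) (hX : IsIso (lift a.act (snd G X))) :
    Nonempty (𝟙_ (Over (Spec (CommRingCat.of k))) ⟶ X) := by
  obtain ⟨p, n, _, _, hq, hid⟩ := AVAmpleLib.frobIter_spec_card k
  haveI : ∀ T : Over (Spec (CommRingCat.of k)), IsCharP T.left p := fun T => IsCharP.of_hom T.hom p
  let fr : ∀ T : Over (Spec (CommRingCat.of k)), T ⟶ T := fun T => Over.homMk (frobIter T.left p n) (by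
    rw [CurveFFLib.frobIter_comp, hid, Category.comp_id])
  have hnat : ∀ {T T' : Over (Spec (CommRingCat.of k))} (f : T ⟶ T'), fr T ≫ f = f ≫ fr T' := fun f =>
    Over.OverMorphism.ext (CurveFFLib.frobIter_comp f.left n)
  have hF : ∀ s : Γ(G.left, ⊤), (fr G).left.appTop s = s ^ Nat.card k := fun s => by
    obtain ⟨hle, happ⟩ := AVAmpleLib.frobIter_appLE (X := G.left) (p := p) n
    rw [hq, ← happ ⊤ s]
    simp [Scheme.Hom.appLE, Scheme.Hom.appTop]
    rfl
  haveI := isMonHom_frob (fr G) hF
  haveI : JacobsonSpace X.left := LocallyOfFiniteType.jacobsonSpace X.hom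
  obtain ⟨x₀, -, hx₀⟩ := nonempty_inter_closedPoints (X := X.left) Set.univ_nonempty isOpen_univ.isLocallyClosed
  let Ω := AlgebraicClosure k
  obtain ⟨x, -⟩ := exists_imgPt (Ω := Ω) (mem_closedPoints_iff.1 hx₀)
  let P := SGA7.pt (K := k) Ω
  haveI := hX
  obtain ⟨g₀, hg₀⟩ : ∃ g : P ⟶ G, lift g x ≫ a.act = x ≫ fr X := by
    refine ⟨lift (x ≫ fr X) x ≫ inv (lift a.act (snd G X)) ≫ fst G X, ?_⟩
    let w : P ⟶ G ⊗ X := lift (x ≫ fr X) x ≫ inv (lift a.act (snd G X))
    have hw : w ≫ lift a.act (snd G X) = lift (x ≫ fr X) x := by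
      show (lift (x ≫ fr X) x ≫ inv (lift a.act (snd G X))) ≫ lift a.act (snd G X) = _
      rw [Category.assoc, IsIso.inv_hom_id, Category.comp_id]
    have h1 : w ≫ a.act = x ≫ fr X := by simpa using congrArg (· ≫ fst X X) hw
    have h2 : w ≫ snd G X = x := by simpa using congrArg (· ≫ snd X X) hw
    calc lift (lift (x ≫ fr X) x ≫ inv (lift a.act (snd G X)) ≫ fst G X) x ≫ a.act
        = lift (w ≫ fst G X) (w ≫ snd G X) ≫ a.act := by rw [h2]; simp [w]
      _ = w ≫ a.act := by rw [← comp_lift, lift_fst_snd, Category.comp_id]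
      _ = x ≫ fr X := h1
  obtain ⟨v, hv⟩ := exists_lang_preimage (fr G) hF Ω g₀⁻¹
  rw [MonObj.comp_mul, GrpObj.comp_inv, Category.comp_id] at hv
  let y : P ⟶ X := lift v⁻¹ x ≫ a.act
  have hmul : ∀ g h : P ⟶ G, lift g (lift h x ≫ a.act) ≫ a.act = lift (g * h) x ≫ a.act := fun g h =>
    (MonoQuot.act_mul a g h x).symm
  have hfix : y ≫ fr X = y := by
    have h1 : fr P ≫ y = lift (v⁻¹ ≫ fr G) (x ≫ fr X) ≫ a.act := by
      show fr P ≫ lift v⁻¹ x ≫ a.act = _
      rw [← Category.assoc, comp_lift, hnat, hnat]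
    rw [← hnat, h1, ← hg₀, hmul]
    show _ = lift v⁻¹ x ≫ a.act
    congr 2
    rw [GrpObj.inv_comp, ← inv_inv g₀, ← hv, mul_inv_rev, inv_inv, inv_mul_cancel_left]
  -- descend the fixed point
  let z := y.left (IsLocalRing.closedPoint Ω)
  obtain ⟨ψ, hψ⟩ : ∃ ψ : X.left.residueField z ⟶ CommRingCat.of Ω,
      Spec.map ψ ≫ X.left.fromSpecResidueField z = y.left :=
    ⟨_, Scheme.descResidueField_stalkClosedPointTo_fromSpecResidueField Ω X.left y.left⟩
  have hy2 : frobIter (Spec (CommRingCat.of Ω)) p n ≫ y.left = y.left :=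
    congrArg (fun m : P ⟶ X => CommaMorphism.left m) ((hnat y).trans hfix)
  haveI : CharP Ω p := charP_of_injective_algebraMap (algebraMap k Ω).injective p
  haveI : ExpChar Ω p := ExpChar.prime Fact.out
  rw [CurveFFLib.frobIter_spec, ← hψ, ← Category.assoc, cancel_mono, ← Spec.map_comp] at hy2
  have hpow : ∀ r, ψ.hom r ^ Nat.card k = ψ.hom r := fun r => by
    have h := congr($(Spec.map_injective hy2) r)
    rw [hq, ← iterateFrobenius_def]
    exact h
  obtain ⟨f, hf⟩ := Spec.map_surjective (X.left.fromSpecResidueField z ≫ X.hom)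
  have hfψ : f ≫ ψ = CommRingCat.ofHom (algebraMap k Ω) := by
    refine Spec.map_injective ?_
    rw [Spec.map_comp, hf, reassoc_of% hψ]
    exact Over.w y
  have hbij : Function.Bijective f.hom := by
    refine ⟨f.hom.injective, fun r => ?_⟩
    obtain ⟨b, hb⟩ := RingHom.mem_range.1 (mem_range_of_pow_card_eq (hpow r))
    refine ⟨b, ψ.hom.injective ?_⟩
    rw [← hb]
    exact congr($hfψ b)
  haveI : IsIso f := (ConcreteCategory.isIso_iff_bijective f).2 hbij
  refine ⟨Over.homMk (Spec.map (inv f) ≫ X.left.fromSpecResidueField z) ?_⟩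
  show (Spec.map (inv f) ≫ X.left.fromSpecResidueField z) ≫ X.hom = 𝟙 _
  rw [Category.assoc, ← hf, ← Spec.map_comp, IsIso.hom_inv_id, Spec.map_id]

end AlbNormLib

end
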