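import Groth.Agent.AlbNormLib.NonSmooth
import Groth.Agent.AlbLib.Albanese
import Groth.Agent.QuotRepLib.Saturate
import Groth.Prelude

/-!
# The smallest normal subgroup with proper quotient
-/

set_option autoImplicit false
set_option linter.style.haveILetI false
set_option backward.isDefEq.respectTransparency false
set_option maxHeartbeats 2000000

universe u

open CategoryTheory CategoryTheory.Limits MonoidalCategory CartesianMonoidalCategory AlgebraicGeometry
open scoped MonObj

noncomputable section

namespace AlbNormLib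

attribute [-instance] CategoryTheory.Hom.commGroup

variable {k : Type u} [Field k]

/-- A smallest kernel of a homomorphism to a proper group. -/
theorem exists_min_kernel (G : Over (Spec (CommRingCat.of k))) [GrpObj G] [LocallyOfFiniteType G.hom]
    [QuasiCompact G.hom] :
    ∃ (N : Over (Spec (CommRingCat.of k))) (_ : GrpObj N) (i : N ⟶ G), IsMonHom i ∧ IsClosedImmersion i.left ∧
      AlgGrp.IsNormalHom i ∧
      (∃ (B : Over (Spec (CommRingCat.of k))) (_ : GrpObj B) (f : G ⟶ B), IsMonHom f ∧ IsProper B.hom ∧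
        AlgGrp.IsKernel i f) ∧
      ∀ (B : Over (Spec (CommRingCat.of k))) [GrpObj B] [IsProper B.hom] (f : G ⟶ B) [IsMonHom f], i ≫ f = 1 := by
  haveI : IsLocallyNoetherian G.left := LocallyOfFiniteType.isLocallyNoetherian G.hom
  haveI : CompactSpace G.left := QuasiCompact.compactSpace_of_compactSpace G.hom
  haveI : IsNoetherian G.left := ⟨⟩
  haveI := Groth.Agent.S4362.result G.left
  let S : Set G.left.IdealSheafData := {I | ∃ (N : Over (Spec (CommRingCat.of k))) (_ : GrpObj N) (i : N ⟶ G),
    IsMonHom i ∧ IsClosedImmersion i.left ∧ AlgGrp.IsNormalHom i ∧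
      (∃ (B : Over (Spec (CommRingCat.of k))) (_ : GrpObj B) (f : G ⟶ B), IsMonHom f ∧ IsProper B.hom ∧
        AlgGrp.IsKernel i f) ∧ i.left.ker = I}
  have hne : S.Nonempty := by
    haveI : IsProper (𝟙_ (Over (Spec (CommRingCat.of k)))).hom := inferInstanceAs (IsProper (𝟙 _))
    obtain ⟨K, hK, iK, h1, h2, h3, h4⟩ := AntiAffLib.exists_kernel (toUnit G)
    exact ⟨_, K, hK, iK, h1, h2, h4, ⟨_, inferInstance, toUnit G, inferInstance, inferInstance, h3⟩, rfl⟩
  obtain ⟨_, ⟨N, _, i, hm, hci, hn, hA, rfl⟩, hmax⟩ := WellFounded.has_min wellFounded_gt S hne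
  haveI := hm; haveI := hci
  refine ⟨N, inferInstance, i, hm, hci, hn, hA, fun B _ _ f _ => ?_⟩
  obtain ⟨A, _, α, hαm, hAp, hα⟩ := hA
  haveI := hαm; haveI := hAp
  haveI : IsProper (A ⊗ B).hom := by rw [Over.tensorObj_hom]; infer_instance
  haveI : IsMonHom (lift α f) := inferInstance
  obtain ⟨K, hK, iK, h1, h2, hk, h4⟩ := AntiAffLib.exists_kernel (lift α f)
  haveI := h2
  have hkα : iK ≫ α = 1 := by
    have h := congrArg (· ≫ fst A B) (AntiAffLib.kernel_comp hk)
    simpa only [Category.assoc, lift_fst, Hom.one_def, IsMonHom.one_hom] using h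
  obtain ⟨l, hl⟩ := AntiAffLib.exists_lift_kernel hα iK hkα
  have hle : i.left.ker ≤ iK.left.ker := by
    rw [← hl, Over.comp_left]; exact Scheme.Hom.le_ker_comp _ _
  have heq : iK.left.ker = i.left.ker :=
    (hle.eq_of_not_lt (fun hlt => hmax _
      ⟨K, hK, iK, h1, h2, h4, ⟨_, inferInstance, lift α f, inferInstance, inferInstance, hk⟩, rfl⟩ hlt)).symm
  haveI : IsIso l.left := IsClosedImmersion.isIso_of_ker_eq iK.left i.left l.left
    (congrArg CommaMorphism.left hl) heq
  haveI : IsIso ((Over.forget _).map l) := ‹IsIso l.left›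
  haveI : IsIso l := isIso_of_reflects_iso l (Over.forget _)
  rw [← cancel_epi l, ← Category.assoc, hl, MonObj.comp_one]
  have h := congrArg (· ≫ snd A B) (AntiAffLib.kernel_comp hk)
  simpa only [Category.assoc, lift_snd, Hom.one_def, IsMonHom.one_hom] using h

/-- The identity component of a normal subgroup is normal. -/
theorem isNormalHom_component' {G N N₀ : Over (Spec (CommRingCat.of k))} [GrpObj G] [GrpObj N] [GrpObj N₀]
    [LocallyOfFiniteType N.hom] [QuasiCompact N.hom] [LocallyOfFiniteType N₀.hom] [QuasiCompact N₀.hom]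
    [ConnectedSpace N₀.left] (i : N ⟶ G) [IsMonHom i] [Mono i] (hn : AlgGrp.IsNormalHom i)
    (j : N₀ ⟶ N) [IsMonHom j] [IsOpenImmersion j.left] : AlgGrp.IsNormalHom (j ≫ i) := by
  haveI : Flat N₀.hom := Groth.Agent.GrpField.flat_field _
  haveI : GeometricallyIrreducible N₀.hom := by
    have h := Groth.Agent.GrpField.geometricallyIrreducible_of_range (G := N₀) (𝟙 N₀.left) (by
      rw [← Groth.Agent.GrpField.connectedComponent_unit, PreconnectedSpace.connectedComponent_eq_univ]
      exact Set.range_eq_univ.2 fun x => ⟨x, rfl⟩)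
    rwa [Category.id_comp] at h
  obtain ⟨c, hc⟩ := hn (N₀ ⊗ G) (snd N₀ G) (fst N₀ G ≫ j)
  have hr : Set.range c.left ⊆ Set.range j.left := by
    rintro _ ⟨z, rfl⟩
    let g := (snd N₀ G).left z
    let T : Over (Spec (CommRingCat.of k)) := Over.mk (G.left.fromSpecResidueField g ≫ G.hom)
    let t : T ⟶ G := Over.homMk (G.left.fromSpecResidueField g) rfl
    haveI : IrreducibleSpace ↥(N₀ ⊗ T).left :=
      GeometricallyIrreducible.geometrically_irreducibleSpace (f := N₀.hom) T.hom _ _
        (IsPullback.of_hasPullback N₀.hom T.hom)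
    let m : N₀ ⊗ T ⟶ N := (N₀ ◁ t) ≫ c
    have hz : c.left z ∈ Set.range m.left := by
      obtain ⟨w, hw, -⟩ := Scheme.exists_preimage_of_isPullback
        (Groth.Agent.FinHom.isPullback_whiskerLeft N₀ t) z (IsLocalRing.closedPoint _)
        (Scheme.fromSpecResidueField_apply g _).symm
      exact ⟨w, by rw [Over.comp_left, Scheme.Hom.comp_apply, hw]⟩
    have he : Groth.Agent.GrpField.unitPt N ∈ Set.range m.left := by
      let s : T ⟶ N₀ ⊗ T := lift 1 (𝟙 T)
      have hs : s ≫ m = toUnit T ≫ η[N] := by
        rw [← cancel_mono i, ← Hom.one_def, MonObj.one_comp, Category.assoc, Category.assoc, ← hc, ← Category.assoc,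
          lift_whiskerLeft, Category.id_comp]
        simp only [MonObj.comp_mul, GrpObj.comp_inv, lift_fst_assoc, lift_snd, Category.assoc, MonObj.one_comp,
          mul_one, mul_inv_cancel]
      let q : T.left := IsLocalRing.closedPoint _
      refine ⟨s.left q, (congr($(hs).left q)).trans ?_⟩
      show (η[N]).left ((toUnit T).left q) = _
      rw [show (toUnit T).left q = (IsLocalRing.closedPoint k : Spec (CommRingCat.of k)) from
        @Subsingleton.elim (PrimeSpectrum k) _ _ _]
      rfl
    rw [AntiAffLib.range_eq_component j]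
    exact (isPreconnected_range m.left.continuous).subset_connectedComponent he hz
  let c' : N₀ ⊗ G ⟶ N₀ := Over.homMk (IsOpenImmersion.lift j.left c.left hr) (by
    rw [← Over.w j, ← Category.assoc, IsOpenImmersion.lift_fac, Over.w c])
  have hc' : c' ≫ j = c := Over.OverMorphism.ext (IsOpenImmersion.lift_fac _ _ _)
  intro T g n
  refine ⟨lift n g ≫ c', ?_⟩
  rw [Category.assoc, ← Category.assoc c', hc', ← hc]
  simp only [MonObj.comp_mul, GrpObj.comp_inv, lift_fst_assoc, lift_snd, Category.assoc]

/-- The smallest normal subgroup with proper quotient is connected. -/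
theorem connectedSpace_min' {G N Q : Over (Spec (CommRingCat.of k))} [GrpObj G] [GrpObj N] [GrpObj Q]
    [LocallyOfFiniteType G.hom] [QuasiCompact G.hom] (i : N ⟶ G) [IsMonHom i] [IsClosedImmersion i.left]
    (hn : AlgGrp.IsNormalHom i) [IsProper Q.hom] (α : G ⟶ Q) [IsMonHom α] [Flat α.left] [Surjective α.left]
    (hα : AlgGrp.IsKernel i α)
    (hmin : ∀ (B : Over (Spec (CommRingCat.of k))) [GrpObj B] [IsProper B.hom] (f : G ⟶ B) [IsMonHom f], i ≫ f = 1) :
    ConnectedSpace N.left := by
  haveI : LocallyOfFiniteType N.hom := by rw [← Over.w i]; infer_instance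
  haveI : QuasiCompact N.hom := by rw [← Over.w i]; infer_instance
  haveI : Mono i := Over.mono_of_mono_left i
  obtain ⟨N₀, _, j, _, hjc, hjf, hjr, hgi, hjk⟩ := Groth.Agent.GrpField.exists_identity_component (G := N)
  haveI := hjc; haveI := hjf; haveI := hgi; haveI := hjk
  haveI : LocallyOfFiniteType N₀.hom := by rw [← Over.w j]; infer_instance
  haveI : QuasiCompact N₀.hom := by rw [← Over.w j]; infer_instance
  haveI : IsLocallyNoetherian N.left := LocallyOfFiniteType.isLocallyNoetherian N.hom
  haveI : LocallyOfFinitePresentation j.left := LocallyOfFinitePresentation.iff_locallyOfFiniteType.2 inferInstance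
  haveI : IsOpenImmersion j.left := IsOpenImmersion.of_flat_of_mono j.left
  haveI : Subsingleton ↥(Spec (CommRingCat.of k)) := inferInstanceAs (Subsingleton (PrimeSpectrum k))
  haveI : IrreducibleSpace N₀.left := GeometricallyIrreducible.irreducibleSpace_of_subsingleton N₀.hom
  haveI : ConnectedSpace N₀.left := inferInstance
  haveI : Mono j := Over.mono_of_mono_left j
  haveI : Mono (j ≫ i) := mono_comp _ _
  haveI : IsClosedImmersion (j ≫ i).left := by rw [Over.comp_left]; infer_instance
  haveI : Flat N₀.hom := Groth.Agent.GrpField.flat_field _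
  haveI : Flat G.hom := Groth.Agent.GrpField.flat_field _
  obtain ⟨A', _, p, _, hpf, hps, hpl, hpk, hAsep, -, -⟩ :=
    Groth.Agent.S3030.result k N₀ G (j ≫ i) (isNormalHom_component' i hn j)
  haveI := hpf; haveI := hps; haveI := hpl; haveI := hAsep
  haveI : LocallyOfFiniteType A'.hom := by
    haveI : LocallyOfFinitePresentation (p.left ≫ A'.hom) := by
      rw [Over.w p]; exact LocallyOfFinitePresentation.iff_locallyOfFiniteType.2 inferInstance
    haveI := Groth.Agent.S0114.result p.left A'.hom
    infer_instance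
  haveI : CompactSpace G.left := QuasiCompact.compactSpace_of_compactSpace G.hom
  haveI : CompactSpace A'.left := ⟨by
    rw [← Set.range_eq_univ.mpr p.left.surjective]; exact isCompact_range p.left.continuous⟩
  haveI : QuasiCompact A'.hom := quasiCompact_of_compactSpace _
  have hd : ∀ (T : Over (Spec (CommRingCat.of k))) (a b : T ⟶ G), a ≫ p = b ≫ p → a ≫ α = b ≫ α := by
    intro T a b e
    obtain ⟨l, hl⟩ := AntiAffLib.exists_lift_kernel hpk (a * b⁻¹)
      (by rw [MonObj.mul_comp, GrpObj.inv_comp, e, mul_inv_cancel])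
    have h := congrArg (· ≫ α) hl
    simp only [Category.assoc] at h
    rw [AntiAffLib.kernel_comp hα, MonObj.comp_one, MonObj.comp_one, MonObj.mul_comp, GrpObj.inv_comp] at h
    exact mul_inv_eq_one.1 h.symm
  obtain ⟨q, hq⟩ := Groth.Agent.MonoQuot.exists_desc_over p α hd
  haveI := Groth.Agent.MonoQuot.epi_over p
  haveI : IsMonHom q := by
    have h1 : η[A'] ≫ q = η[Q] := by
      rw [← IsMonHom.one_hom p, Category.assoc, hq, IsMonHom.one_hom]
    refine { one_hom := h1, mul_hom := ?_ }
    obtain ⟨_, _, _⟩ := Groth.Agent.MonoQuot.fppf_tensor p p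
    haveI := Groth.Agent.MonoQuot.epi_over (p ⊗ₘ p)
    rw [← cancel_epi (p ⊗ₘ p), tensorHom_comp_tensorHom_assoc, hq, ← IsMonHom.mul_hom_assoc, hq, IsMonHom.mul_hom]
  haveI : Surjective q.left := by
    haveI : Surjective (p.left ≫ q.left) := by rw [← Over.comp_left, hq]; infer_instance
    exact Surjective.of_comp p.left q.left
  haveI : Flat q.left := by
    haveI : Flat (p.left ≫ q.left) := by rw [← Over.comp_left, hq]; infer_instance
    exact Groth.Agent.QuotRep.flat_of_comp_surjective p.left q.left
  haveI : QuasiCompact q.left := by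
    haveI : QuasiCompact (q.left ≫ Q.hom) := by rw [Over.w q]; infer_instance
    exact QuasiCompact.of_comp q.left Q.hom
  obtain ⟨E, _, iE, _, hiE, hkE, -⟩ := AntiAffLib.exists_kernel q
  haveI := hiE
  haveI : LocallyOfFiniteType E.hom := by rw [← Over.w iE]; infer_instance
  haveI : Mono iE := Over.mono_of_mono_left iE
  obtain ⟨r, hr⟩ := AntiAffLib.exists_lift_kernel hkE (i ≫ p)
    (by rw [Category.assoc, hq, AntiAffLib.kernel_comp hα])
  haveI : IsMonHom (r ≫ iE) := by rw [hr]; infer_instance
  haveI : IsMonHom r := Groth.Agent.DiagRep.isMonHom_of_comp_mono r iE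
  have hsq : IsPullback r i iE p := by
    have hex : ∀ s : PullbackCone iE p, ∃ l : s.pt ⟶ N, l ≫ i = s.snd := fun s =>
      AntiAffLib.exists_lift_kernel hα s.snd (by
        rw [← hq, ← Category.assoc, ← s.condition, Category.assoc, AntiAffLib.kernel_comp hkE, MonObj.comp_one])
    refine IsPullback.of_isLimit' ⟨hr⟩ (PullbackCone.IsLimit.mk _ (fun s => (hex s).choose)
      (fun s => ?_) (fun s => (hex s).choose_spec) (fun s m h1 h2 => ?_))
    · rw [← cancel_mono iE, Category.assoc, hr, ← Category.assoc, (hex s).choose_spec]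
      exact s.condition.symm
    · rw [← cancel_mono i]
      exact h2.trans (hex s).choose_spec.symm
  have hsql := (hsq.map (Over.forget _)).flip
  haveI : Flat r.left := MorphismProperty.of_isPullback (P := @Flat) hsql.flip.flip hpf
  haveI : Surjective r.left := MorphismProperty.of_isPullback (P := @Surjective) hsql.flip.flip hps
  have hrk : AlgGrp.IsKernel j r := by
    refine AntiAffLib.isKernel_of_forall j r ?_ fun T t ht => ?_
    · rw [← cancel_mono iE, Category.assoc, hr, MonObj.one_comp, ← Category.assoc, AntiAffLib.kernel_comp hpk]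
    · obtain ⟨l, hl⟩ := AntiAffLib.exists_lift_kernel hpk (t ≫ i) (by
        rw [Category.assoc, ← hr, ← Category.assoc, ht, MonObj.one_comp])
      exact ⟨l, by rw [← cancel_mono i, Category.assoc, hl]⟩
  haveI : IsFinite E.hom := AlbLib.isFinite_of_open_kernel j r hrk
  haveI : IsFinite q.left := MorphismProperty.of_isPullback_of_descendsAlong (P := @IsFinite)
    (Q := @Surjective ⊓ @Flat ⊓ @QuasiCompact) ((Groth.Agent.GrpKerShear.isPullback_shear q iE hkE).map (Over.forget _))
    ⟨⟨‹Surjective q.left›, ‹Flat q.left›⟩, ‹QuasiCompact q.left›⟩ (by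
      show IsFinite (fst A' E).left
      rw [Over.fst_left]
      exact MorphismProperty.pullback_fst _ _ inferInstance)
  haveI : IsProper A'.hom := by rw [← Over.w q]; infer_instance
  have h0 := hmin A' p
  obtain ⟨l, hl⟩ := AntiAffLib.exists_lift_kernel hpk i h0
  have hl' : l ≫ j = 𝟙 N := by rw [← cancel_mono i, Category.assoc, hl, Category.id_comp]
  refine Function.Surjective.connectedSpace (f := j.left) (fun x => ⟨l.left x, ?_⟩) j.left.continuous
  exact congr($(congrArg CommaMorphism.left hl') x)

end AlbNormLib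

end
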