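import Groth.Agent.ChevThmLib.DescentGen
import Groth.Agent.GrpSchLib.Cartier
import Groth.Prelude

/-!
# Proper quotients with affine kernel of arbitrary groups of finite type
-/

set_option autoImplicit false
set_option linter.style.haveILetI false
set_option backward.isDefEq.respectTransparency false
set_option maxHeartbeats 2000000

universe u

open CategoryTheory CategoryTheory.Limits MonoidalCategory CartesianMonoidalCategory AlgebraicGeometry TopologicalSpace
open scoped MonObj

noncomputable section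

namespace AlbNormLib

attribute [-instance] CategoryTheory.Hom.commGroup

variable {k : Type u} [Field k]

theorem frobIter_app {p : ℕ} [Fact p.Prime] {X : Scheme.{u}} [FrobSch.IsCharP X p] (n : ℕ) (U : X.Opens)
    (s : Γ(X, U)) (hs : s ^ p ^ n = 0) : (FrobSch.frobIter X p n).app U s = 0 := by
  induction n generalizing s with
  | zero =>
    rw [pow_zero, pow_one] at hs
    subst hs
    exact map_zero ((FrobSch.frobIter X p 0).app U).hom
  | succ n ih =>
    rw [FrobSch.frobIter_succ, Scheme.Hom.comp_app, CommRingCat.comp_apply]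
    show ((FrobSch.frobIter X p n).app U s) ^ p = 0
    rw [← map_pow]
    exact ih (s ^ p) (by rw [← pow_mul, mul_comm, ← pow_succ]; exact hs)

/-- A high power of the Frobenius factors through any closed subscheme with the same space. -/
theorem exists_frobIter_factor {p : ℕ} [Fact p.Prime] {X Z : Scheme.{u}} [IsNoetherian X] [FrobSch.IsCharP X p]
    (i : Z ⟶ X) [IsClosedImmersion i] [Surjective i] :
    ∃ (e : ℕ) (l : X ⟶ Z), l ≫ i = FrobSch.frobIter X p e := by
  have hnil : i.ker ≤ X.nilradical := by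
    rw [← Scheme.IdealSheafData.vanishingIdeal_top, ← Scheme.IdealSheafData.le_support_iff_le_vanishingIdeal]
    intro x _
    show x ∈ (i.ker.support : Set X)
    rw [Scheme.Hom.support_ker]
    exact subset_closure (i.surjective x)
  obtain ⟨T, hT, hTf, hTc⟩ : ∃ T : Set X.affineOpens, T.Finite ∧ T.Finite ∧ ⨆ U : T, (U.1.1 : X.Opens) = ⊤ := by
    obtain ⟨t, ht⟩ := isCompact_univ.elim_finite_subcover (fun U : X.affineOpens => (U.1 : Set X))
      (fun U => U.1.isOpen) (fun x _ => by
        have hx : x ∈ (⨆ U : X.affineOpens, (U.1 : X.Opens)) := by rw [iSup_affineOpens_eq_top]; trivial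
        obtain ⟨U, hU⟩ := TopologicalSpace.Opens.mem_iSup.1 hx
        exact Set.mem_iUnion.2 ⟨U, hU⟩)
    refine ⟨↑t, t.finite_toSet, t.finite_toSet, eq_top_iff.2 fun x _ => ?_⟩
    obtain ⟨U, hU⟩ := Set.mem_iUnion.1 (ht (Set.mem_univ x))
    obtain ⟨hUt, hxU⟩ := Set.mem_iUnion.1 hU
    exact TopologicalSpace.Opens.mem_iSup.2 ⟨⟨U, hUt⟩, hxU⟩
  have hN : ∀ U : X.affineOpens, ∃ N : ℕ, ∀ s ∈ i.ker.ideal U, s ^ N = 0 := by
    intro U
    haveI : IsNoetherianRing Γ(X, U) := IsLocallyNoetherian.component_noetherian U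
    obtain ⟨N, hN⟩ := IsNoetherianRing.isNilpotent_nilradical Γ(X, U)
    refine ⟨N, fun s hs => ?_⟩
    have hs' : s ∈ nilradical Γ(X, U) := by simpa [Scheme.nilradical, nilradical] using hnil U hs
    have := Ideal.pow_mem_pow hs' N
    rwa [hN] at this
  choose N hN using hN
  haveI : Finite T := hT.to_subtype
  obtain ⟨e, he⟩ : ∃ e : ℕ, ∀ U : T, N U.1 ≤ p ^ e := by
    obtain ⟨M, hM⟩ := (Set.finite_range fun U : T => N U.1).bddAbove
    exact ⟨M, fun U => (hM ⟨U, rfl⟩).trans (Nat.lt_pow_self (Fact.out : p.Prime).one_lt).le⟩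
  refine ⟨e, IsClosedImmersion.lift i (FrobSch.frobIter X p e)
    (Scheme.IdealSheafData.le_of_iSup_eq_top (fun U : T => U.1) hTc fun U s hs => ?_), IsClosedImmersion.lift_fac _ _ _⟩
  haveI : IsIntegralHom (FrobSch.frobIter X p e) := (CurveFFLib.frobIter_props (p := p) (X := X) e).1
  rw [Scheme.Hom.ker_apply]
  exact frobIter_app e _ s (pow_eq_zero_of_le (he U) (hN U.1 s hs))

/-- A group of finite type in positive characteristic maps affinely to a smooth one. -/
theorem exists_affine_map_smooth (p : ℕ) [Fact p.Prime] [CharP k p] [ExpChar k p]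
    (G : Over (Spec (CommRingCat.of k))) [GrpObj G] [LocallyOfFiniteType G.hom] [QuasiCompact G.hom] :
    ∃ (G' : Over (Spec (CommRingCat.of k))) (_ : GrpObj G') (Φ : G ⟶ G'), IsMonHom Φ ∧ IsAffineHom Φ.left ∧
      Smooth G'.hom ∧ QuasiCompact G'.hom := by
  haveI : IsSeparated G.hom := Groth.Agent.GrpField.isSeparated_grp (G := G)
  obtain ⟨r, Z, i, hi, his, hgr, hred⟩ := ChevThmLib.exists_reduced_twist p G.hom
  haveI := hi; haveI := his; haveI := hgr; haveI := hred
  letI := ChevThmLib.twGrp (k := k) p r G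
  haveI := ChevThmLib.isMonHom_relF p r G
  let Gr := (ChevThmLib.twF (k := k) p r).obj G
  haveI : LocallyOfFiniteType Gr.hom := inferInstanceAs (LocallyOfFiniteType (pullback.snd G.hom _))
  haveI : QuasiCompact Gr.hom := inferInstanceAs (QuasiCompact (pullback.snd G.hom _))
  haveI : IsSeparated Gr.hom := inferInstanceAs (IsSeparated (pullback.snd G.hom _))
  let H : Over (Spec (CommRingCat.of k)) := Over.mk (i ≫ Gr.hom)
  let iH : H ⟶ Gr := Over.homMk i rfl
  haveI : IsClosedImmersion iH.left := hi
  haveI : Mono iH := Over.mono_of_mono_left iH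
  haveI : IsReduced H.left := hred
  haveI : Surjective iH.left := his
  haveI : GeometricallyReduced H.hom := hgr
  haveI : LocallyOfFiniteType H.hom := inferInstanceAs (LocallyOfFiniteType (i ≫ Gr.hom))
  have hfac : ∀ (T : Over (Spec (CommRingCat.of k))) (h : T ⟶ Gr), IsReduced T.left → ∃ l : T ⟶ H, l ≫ iH = h := by
    intro T h _
    obtain ⟨l, hl⟩ := AVAmpleLib.exists_lift_of_reduced iH.left h.left
      (fun x _ => his.surj x)
    refine ⟨Over.homMk l ?_, Over.OverMorphism.ext hl⟩
    rw [← Over.w h, ← hl, Category.assoc, Over.w iH]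
  haveI : IsReduced (H ⊗ H).left := by
    haveI : IsLocallyNoetherian H.left := LocallyOfFiniteType.isLocallyNoetherian H.hom
    haveI : Flat H.hom := Groth.Agent.GrpField.flat_field _
    exact inferInstanceAs (IsReduced (pullback H.hom H.hom))
  obtain ⟨_, _⟩ := Groth.Agent.SubDesc.exists_grpObj_of_mono iH (hfac _ _ inferInstance)
    (hfac _ _ (inferInstanceAs (IsReduced (Spec (CommRingCat.of k))))) (hfac _ _ inferInstance)
  haveI : Smooth H.hom := AlbLib.smooth_grp H
  haveI : IsLocallyNoetherian Gr.left := LocallyOfFiniteType.isLocallyNoetherian Gr.hom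
  haveI : CompactSpace Gr.left := QuasiCompact.compactSpace_of_compactSpace Gr.hom
  haveI : IsNoetherian Gr.left := ⟨⟩
  haveI : FrobSch.IsCharP Gr.left p := FrobSch.IsCharP.of_hom Gr.hom p
  obtain ⟨e, l, hl⟩ := exists_frobIter_factor (p := p) iH.left
  letI := ChevThmLib.twGrp (k := k) p e Gr
  letI := ChevThmLib.twGrp (k := k) p e H
  haveI := ChevThmLib.isMonHom_relF p e Gr
  let He := (ChevThmLib.twF (k := k) p e).obj H
  let Gre := (ChevThmLib.twF (k := k) p e).obj Gr
  let iHe : He ⟶ Gre := (ChevThmLib.twF (k := k) p e).map iH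
  haveI : Mono iHe := Functor.map_mono _ _
  haveI : IsMonHom iHe := inferInstanceAs (IsMonHom ((ChevThmLib.twF (k := k) p e).map iH))
  let m : Gr ⟶ He := Over.homMk (pullback.lift l Gr.hom (by
    rw [← Over.w iH, ← Category.assoc, hl, CurveFFLib.frobIter_comp, CurveFFLib.frobIter_spec]))
    (pullback.lift_snd _ _ _)
  have hm : m ≫ iHe = ChevThmLib.relF p e Gr := by
    refine Over.OverMorphism.ext (pullback.hom_ext ?_ ?_)
    · simp only [Over.comp_left, Category.assoc, ChevThmLib.relF_fst]
      rw [show iHe.left ≫ pullback.fst Gr.hom (ChevThmLib.frobS p e) = pullback.fst H.hom (ChevThmLib.frobS p e) ≫ iH.left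
        from pullback.lift_fst _ _ _, ← Category.assoc]
      erw [pullback.lift_fst]
      exact hl
    · exact (Over.w (m ≫ iHe)).trans (Over.w (ChevThmLib.relF p e Gr)).symm
  haveI : IsMonHom (m ≫ iHe) := by rw [hm]; infer_instance
  haveI : IsMonHom m := Groth.Agent.DiagRep.isMonHom_of_comp_mono m iHe
  haveI : QuasiCompact H.hom := inferInstanceAs (QuasiCompact (i ≫ Gr.hom))
  haveI : Smooth He.hom := inferInstanceAs (Smooth (pullback.snd H.hom _))
  haveI : QuasiCompact He.hom := inferInstanceAs (QuasiCompact (pullback.snd H.hom _))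
  haveI : IsSeparated Gre.hom := inferInstanceAs (IsSeparated (pullback.snd Gr.hom _))
  haveI : IsClosedImmersion iHe.left := by
    have sq : IsPullback (pullback.fst H.hom (ChevThmLib.frobS (k := k) p e)) iHe.left iH.left
        (pullback.fst Gr.hom (ChevThmLib.frobS (k := k) p e)) := by
      refine IsPullback.of_bot (v₂₁ := pullback.snd Gr.hom _) (v₂₂ := Gr.hom)
        (h₃₁ := ChevThmLib.frobS (k := k) p e) ?_ ?_ (IsPullback.of_hasPullback _ _)
      · have h1 : iHe.left ≫ pullback.snd Gr.hom (ChevThmLib.frobS (k := k) p e) = pullback.snd H.hom _ := Over.w iHe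
        rw [h1, Over.w iH]
        exact IsPullback.of_hasPullback _ _
      · exact (pullback.lift_fst _ _ _).symm
    exact MorphismProperty.of_isPullback sq hi
  obtain ⟨h1, -, -⟩ := ChevThmLib.relF_props p r G
  obtain ⟨h2, -, -⟩ := ChevThmLib.relF_props p e Gr
  haveI : IsAffineHom m.left := by
    haveI : IsAffineHom (m.left ≫ iHe.left) := by
      rw [← Over.comp_left, hm]; exact (inferInstance : IsAffineHom (ChevThmLib.relF p e Gr).left)
    exact IsAffineHom.of_comp m.left iHe.left
  refine ⟨He, inferInstance, ChevThmLib.relF p r G ≫ m, inferInstance, ?_, inferInstance, inferInstance⟩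
  rw [Over.comp_left]
  infer_instance

/-- Every group of finite type over a field maps to a proper group with affine kernel. -/
theorem exists_affineKer_map' (G : Over (Spec (CommRingCat.of k))) [GrpObj G] [LocallyOfFiniteType G.hom]
    [QuasiCompact G.hom] :
    ∃ (B : Over (Spec (CommRingCat.of k))) (_ : GrpObj B) (f : G ⟶ B), IsMonHom f ∧ IsProper B.hom ∧
      ∀ (K : Over (Spec (CommRingCat.of k))) (iK : K ⟶ G), IsClosedImmersion iK.left → iK ≫ f = 1 → IsAffine K.left := by
  rcases CharP.exists' k with h0 | ⟨p, hp', hch⟩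
  · haveI := h0
    haveI : Smooth G.hom := Groth.Agent.GrpSchLib.smooth_of_charZero (G := G)
    exact ChevThmLib.exists_affineKer_map G
  · haveI := hp'; haveI := hch
    haveI : ExpChar k p := ExpChar.prime hp'.out
    obtain ⟨G', _, Φ, _, hΦ, hs, hq⟩ := exists_affine_map_smooth p G
    haveI := hΦ; haveI := hs; haveI := hq
    obtain ⟨B, _, f, _, hB, hK⟩ := ChevThmLib.exists_affineKer_map G'
    haveI := hB
    refine ⟨B, inferInstance, Φ ≫ f, inferInstance, hB, fun K iK _ h => ?_⟩
    obtain ⟨L, _, iL, _, hiL, hkL, -⟩ := AntiAffLib.exists_kernel f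
    haveI := hiL
    haveI : IsAffine L.left := hK L iL hiL (AntiAffLib.kernel_comp hkL)
    obtain ⟨l, hl⟩ := AntiAffLib.exists_lift_kernel hkL (iK ≫ Φ) (by rw [Category.assoc, h])
    haveI : IsAffineHom (l.left ≫ iL.left) := by rw [← Over.comp_left, hl, Over.comp_left]; infer_instance
    haveI : IsAffineHom l.left := IsAffineHom.of_comp l.left iL.left
    exact isAffine_of_isAffineHom l.left

end AlbNormLib

end
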