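import Groth.Agent.AlbNormLib.Points
import Groth.Agent.AlbLib.AffineHom
import Groth.Agent.ChevThmLib.PtSub
import Groth.Agent.AbSchLib.Flat
import Groth.Agent.AVAmpleLib.ReducedSub
import Groth.Agent.WeilResLib.Maps
import Groth.Agent.WeilResLib.Transporter
import Groth.Agent.DiagRepLib.Scheme
import Groth.Prelude

/-!
# The smallest kernel of the identity component is normal in the whole group
-/

set_option autoImplicit false
set_option linter.style.haveILetI false
set_option backward.isDefEq.respectTransparency false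
set_option maxHeartbeats 4000000

universe u

open CategoryTheory CategoryTheory.Limits MonoidalCategory CartesianMonoidalCategory AlgebraicGeometry
open scoped MonObj
open AVAmpleLib (bcF bcPt imgPt)

noncomputable section

namespace AlbNormLib

attribute [-instance] CategoryTheory.Hom.commGroup

variable {k : Type u} [Field k]

/-- Conjugation by a point is a homomorphism. -/
theorem isMonHom_conj {H G : Over (Spec (CommRingCat.of k))} [GrpObj H] [GrpObj G] (i : H ⟶ G) [IsMonHom i]
    (g : 𝟙_ (Over (Spec (CommRingCat.of k))) ⟶ G) : IsMonHom ((toUnit H ≫ g) * i * (toUnit H ≫ g)⁻¹) := by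
  refine { one_hom := ?_, mul_hom := ?_ }
  · simp only [MonObj.comp_mul, GrpObj.comp_inv, IsMonHom.one_hom]
    rw [← Category.assoc, toUnit_unique (η[H] ≫ toUnit H) (𝟙 _), Category.id_comp,
      show (η[G] : 𝟙_ (Over (Spec (CommRingCat.of k))) ⟶ G) = 1 by
        rw [Hom.one_def, toUnit_unique (toUnit _) (𝟙 _), Category.id_comp], _root_.mul_one, mul_inv_cancel]
  · have hm : ∀ (X : Over (Spec (CommRingCat.of k))) [GrpObj X], (μ[X] : X ⊗ X ⟶ X) = fst X X * snd X X :=
      fun X _ => MonObj.mul_eq_mul X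
    rw [hm G, MonObj.comp_mul (_ ⊗ₘ _), tensorHom_fst, tensorHom_snd]
    simp only [MonObj.comp_mul, GrpObj.comp_inv, IsMonHom.mul_hom]
    rw [hm G, MonObj.comp_mul (_ ⊗ₘ _), tensorHom_fst, tensorHom_snd]
    simp only [← Category.assoc]
    rw [toUnit_unique (μ[H] ≫ toUnit H) (toUnit (H ⊗ H)), toUnit_unique (fst H H ≫ toUnit H) (toUnit (H ⊗ H)),
      toUnit_unique (snd H H ≫ toUnit H) (toUnit (H ⊗ H))]
    group

local instance grpBcN (Ω : Type u) [Field Ω] [Algebra k Ω] (Z : Over (Spec (CommRingCat.of k))) [GrpObj Z] :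
    GrpObj ((bcF Ω).obj Z) := Functor.grpObjObj

/-- A smallest kernel which is affine and connected is normal in every ambient group with that identity component. -/
theorem isNormalHom_of_min {G G₀ A N : Over (Spec (CommRingCat.of k))} [GrpObj G] [GrpObj G₀] [GrpObj A] [GrpObj N]
    [Smooth G.hom] [QuasiCompact G.hom] (i₀ : G₀ ⟶ G) [IsMonHom i₀] [IsOpenImmersion i₀.left] [ConnectedSpace G₀.left]
    [IsProper A.hom] (α : G₀ ⟶ A) [IsMonHom α] [Flat α.left] [Surjective α.left]
    (j : N ⟶ G₀) [IsMonHom j] [IsClosedImmersion j.left] (hk : AlgGrp.IsKernel j α)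
    [IsAffine N.left] [ConnectedSpace N.left]
    (hmin : ∀ (B : Over (Spec (CommRingCat.of k))) [GrpObj B] [IsProper B.hom] (f : G₀ ⟶ B) [IsMonHom f], j ≫ f = 1) :
    AlgGrp.IsNormalHom (j ≫ i₀) := by
  classical
  haveI : IsSeparated G.hom := Groth.Agent.GrpField.isSeparated_grp (G := G)
  haveI : LocallyOfFiniteType G₀.hom := by rw [← Over.w i₀]; infer_instance
  haveI : Smooth G₀.hom := by rw [← Over.w i₀]; infer_instance
  haveI : IsLocallyNoetherian G.left := LocallyOfFiniteType.isLocallyNoetherian G.hom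
  haveI : QuasiCompact G₀.hom := by
    haveI : CompactSpace G.left := QuasiCompact.compactSpace_of_compactSpace G.hom
    haveI : IsNoetherian G.left := ⟨⟩
    rw [← Over.w i₀]; infer_instance
  haveI : IsSeparated G₀.hom := Groth.Agent.GrpField.isSeparated_grp (G := G₀)
  haveI : Mono i₀ := Over.mono_of_mono_left i₀
  haveI : Mono j := Over.mono_of_mono_left j
  haveI : LocallyOfFiniteType N.hom := by rw [← Over.w j]; infer_instance
  haveI : QuasiCompact N.hom := by rw [← Over.w j]; infer_instance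
  haveI : Flat G.hom := inferInstance
  -- conjugation
  obtain ⟨c, hc⟩ := AntiAffLib.isNormalHom_of_open i₀ (G₀ ⊗ G) (snd G₀ G) (fst G₀ G)
  let cj : ∀ {T : Over (Spec (CommRingCat.of k))}, (T ⟶ G₀) → (T ⟶ G) → (T ⟶ G₀) := fun m x => lift m x ≫ c
  have hcj : ∀ {T : Over (Spec (CommRingCat.of k))} (m : T ⟶ G₀) (x : T ⟶ G),
      cj m x ≫ i₀ = x * (m ≫ i₀) * x⁻¹ := fun m x => by
    simp only [cj, Category.assoc, ← hc, MonObj.comp_mul, GrpObj.comp_inv, lift_fst_assoc, lift_snd]
  have hnat : ∀ {T T' : Over (Spec (CommRingCat.of k))} (s : T' ⟶ T) (m : T ⟶ G₀) (x : T ⟶ G),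
      s ≫ cj m x = cj (s ≫ m) (s ≫ x) := fun s m x => by simp only [cj, comp_lift_assoc]
  have hcmul : ∀ {T : Over (Spec (CommRingCat.of k))} (m m' : T ⟶ G₀) (x : T ⟶ G),
      cj (m * m') x = cj m x * cj m' x := fun m m' x => by
    rw [← cancel_mono i₀, MonObj.mul_comp, hcj, hcj, hcj, MonObj.mul_comp]; group
  have hcone : ∀ {T : Over (Spec (CommRingCat.of k))} (x : T ⟶ G), cj (1 : T ⟶ G₀) x = 1 := fun x => by
    rw [← cancel_mono i₀, hcj, MonObj.one_comp]; group
  have hcinv : ∀ {T : Over (Spec (CommRingCat.of k))} (m : T ⟶ G₀) (x : T ⟶ G), cj m⁻¹ x = (cj m x)⁻¹ :=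
    fun m x => eq_inv_of_mul_eq_one_left (by rw [← hcmul, inv_mul_cancel, hcone])
  have hcunit : ∀ {T : Over (Spec (CommRingCat.of k))} (m : T ⟶ G₀), cj m (1 : T ⟶ G) = m := fun m => by
    rw [← cancel_mono i₀, hcj]; group
  have hcomp : ∀ {T : Over (Spec (CommRingCat.of k))} (m : T ⟶ G₀) (x y : T ⟶ G),
      cj (cj m y) x = cj m (x * y) := fun m x y => by
    rw [← cancel_mono i₀, hcj, hcj, hcj]; group
  let Pk : ∀ {T : Over (Spec (CommRingCat.of k))}, (T ⟶ G₀) → Prop := fun {T} m =>
    ∀ (T' : Over (Spec (CommRingCat.of k))) (s : T' ⟶ T) (x : T' ⟶ G), cj (s ≫ m) x ≫ α = 1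
  obtain ⟨K, t, htc, htK, -⟩ := Groth.Agent.WeilRes.exists_eqLocus_essFree (c ≫ α) 1
    (Groth.Agent.WeilRes.isEssentiallyFree_of_field G.hom)
  haveI := htc
  haveI : Mono t := Over.mono_of_mono_left t
  have hK : ∀ {T : Over (Spec (CommRingCat.of k))} (m : T ⟶ G₀), (∃ z : T ⟶ K, z ≫ t = m) ↔ Pk m := fun m => by
    refine (htK _ m).trans (forall₃_congr fun T' s x => ?_)
    simp only [cj, Category.assoc, MonObj.comp_one]
  obtain ⟨_, htm⟩ := Groth.Agent.WeilRes.exists_grpObj_of_pred t (fun {T} m => Pk m) hK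
    (fun T' s x => by rw [MonObj.comp_one, hcone, MonObj.one_comp])
    (fun a b ha hb T' s x => by
      rw [MonObj.comp_mul, hcmul, MonObj.mul_comp, ha T' s x, hb T' s x, _root_.mul_one])
    (fun a ha T' s x => by rw [GrpObj.comp_inv, hcinv, GrpObj.inv_comp, ha T' s x, inv_one])
  haveI := htm
  have htn : AlgGrp.IsNormalHom t := by
    intro T g n
    have hn := (hK (n ≫ t)).1 ⟨n, rfl⟩
    obtain ⟨z, hz⟩ := (hK (cj (n ≫ t) (g ≫ i₀))).2 fun T' s x => by
      rw [hnat, hcomp]; exact hn T' s _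
    refine ⟨z, ?_⟩
    rw [hz, ← cancel_mono i₀, hcj, MonObj.mul_comp, MonObj.mul_comp, GrpObj.inv_comp]
  -- the intersection lies in the kernel
  have hta : t ≫ α = 1 := by
    have h := (hK t).1 ⟨𝟙 K, Category.id_comp t⟩ K (𝟙 K) 1
    rwa [Category.id_comp, hcunit] at h
  obtain ⟨l, hl⟩ := AntiAffLib.exists_lift_kernel hk t hta
  -- every geometric point of the kernel lies in the intersection
  let Ω := AlgebraicClosure k
  let ξ := Spec.map (CommRingCat.ofHom (algebraMap k Ω))
  let P := SGA7.pt (K := k) Ω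
  have hpt : ∀ n : P ⟶ N, Pk (n ≫ j) := by
    haveI : GeometricallyReduced G.hom := AbSchLib.geometricallyReduced_of_smooth G.hom
    haveI : Smooth ((bcF Ω).obj G).hom := inferInstanceAs (Smooth (pullback.snd G.hom ξ))
    haveI : QuasiCompact ((bcF Ω).obj G).hom := inferInstanceAs (QuasiCompact (pullback.snd G.hom ξ))
    haveI : LocallyOfFiniteType ((bcF Ω).obj G₀).hom := inferInstanceAs (LocallyOfFiniteType (pullback.snd G₀.hom ξ))
    haveI : QuasiCompact ((bcF Ω).obj G₀).hom := inferInstanceAs (QuasiCompact (pullback.snd G₀.hom ξ))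
    let iΩ := (bcF Ω).map i₀
    haveI : IsMonHom iΩ := inferInstanceAs (IsMonHom ((bcF Ω).map i₀))
    haveI : IsOpenImmersion iΩ.left := MorphismProperty.of_isPullback (AVAmpleLib.isPullback_bc Ω i₀) ‹_›
    haveI : Mono iΩ := Over.mono_of_mono_left iΩ
    haveI : ConnectedSpace ((bcF Ω).obj G₀).left := by
      haveI : GeometricallyIntegral G₀.hom := AlbLib.geometricallyIntegral_grp G₀
      haveI : IrreducibleSpace ↥((bcF Ω).obj G₀).left :=
        GeometricallyIrreducible.geometrically_irreducibleSpace (f := G₀.hom) ξ _ _ (IsPullback.of_hasPullback G₀.hom ξ)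
      infer_instance
    let αΩ := (bcF Ω).map α
    haveI : IsMonHom αΩ := inferInstanceAs (IsMonHom ((bcF Ω).map α))
    haveI : IsProper ((bcF Ω).obj A).hom := inferInstanceAs (IsProper (pullback.snd A.hom ξ))
    let jΩ := (bcF Ω).map j
    haveI : IsMonHom jΩ := inferInstanceAs (IsMonHom ((bcF Ω).map j))
    let NΩ := (bcF Ω).obj N
    haveI : LocallyOfFiniteType NΩ.hom := inferInstanceAs (LocallyOfFiniteType (pullback.snd N.hom ξ))
    haveI : IsAffine NΩ.left := by
      haveI : IsAffineHom N.hom := isAffineHom_of_isAffine _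
      haveI : IsAffineHom NΩ.hom := inferInstanceAs (IsAffineHom (pullback.snd N.hom ξ))
      exact isAffine_of_isAffineHom NΩ.hom
    haveI : GeometricallyIrreducible N.hom := by
      have h := Groth.Agent.GrpField.geometricallyIrreducible_of_range (G := N) (𝟙 N.left) (by
        rw [← Groth.Agent.GrpField.connectedComponent_unit, PreconnectedSpace.connectedComponent_eq_univ]
        exact Set.range_eq_univ.2 fun x => ⟨x, rfl⟩)
      rwa [Category.id_comp] at h
    haveI : IrreducibleSpace ↥NΩ.left :=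
      GeometricallyIrreducible.geometrically_irreducibleSpace (f := N.hom) ξ _ _ (IsPullback.of_hasPullback N.hom ξ)
    obtain ⟨R, _, iR, hRm, hRc, hRr, hRl, hRrange⟩ := AVAmpleLib.exists_reduced_subgroup (A := NΩ) Set.univ
      (Set.mem_univ _) (fun _ _ _ _ => Set.mem_univ _) (fun _ _ => Set.mem_univ _)
    haveI := hRm; haveI := hRc; haveI := hRr; haveI := hRl
    have hRu : Set.range iR.left = Set.univ := Set.eq_univ_of_forall fun z => by
      rw [hRrange]
      exact ChevThmLib.forall_mem_of_points (W := closure (AVAmpleLib.pt '' Set.univ)) isClosed_closure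
        (fun x => subset_closure ⟨x, Set.mem_univ _, rfl⟩) z
    haveI : Surjective iR.left := ⟨Set.range_eq_univ.1 hRu⟩
    haveI : ConnectedSpace R.left :=
      let h : R.left ≃ₜ NΩ.left :=
        (isHomeomorph_iff_isEmbedding_surjective.2 ⟨iR.left.isClosedEmbedding.isEmbedding, iR.left.surjective⟩).homeomorph
      h.symm.surjective.connectedSpace h.symm.continuous
    haveI : IsAffine R.left := isAffine_of_isAffineHom iR.left
    haveI : GeometricallyReduced R.hom := AVAmpleLib.gr_of_isReduced R.hom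
    haveI : Smooth R.hom := AlbLib.smooth_grp R
    let eG := AVAmpleLib.ptsMulEquiv Ω G
    let eG₀ := AVAmpleLib.ptsMulEquiv Ω G₀
    intro n
    have key : ∀ a : P ⟶ G, cj (n ≫ j) a ≫ α = 1 := by
      intro a
      obtain ⟨h, hh⟩ := AntiAffLib.isNormalHom_of_open iΩ ((bcF Ω).obj G₀) (toUnit _ ≫ eG a) (𝟙 _)
      rw [Category.id_comp] at hh
      haveI : IsMonHom (h ≫ iΩ) := hh ▸ isMonHom_conj iΩ (eG a)
      haveI : IsMonHom h := Groth.Agent.DiagRep.isMonHom_of_comp_mono h iΩ
      have h1 : iR ≫ jΩ ≫ h ≫ αΩ = 1 := AlbLib.eq_one_of_affine _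
      obtain ⟨r, hr⟩ := ChevThmLib.exists_point_lift iR (bcPt Ω n) (hRu ▸ Set.mem_univ _)
      have h2 : bcPt Ω (cj (n ≫ j) a) = bcPt Ω (n ≫ j) ≫ h := by
        rw [← cancel_mono iΩ, ← AVAmpleLib.bcPt_comp, hcj, Category.assoc (bcPt Ω (n ≫ j)) h iΩ, ← hh]
        show eG (a * ((n ≫ j) ≫ i₀) * a⁻¹) = _
        rw [map_mul, map_mul, map_inv, MonObj.comp_mul, MonObj.comp_mul, GrpObj.comp_inv, ← Category.assoc,
          toUnit_unique (bcPt Ω (n ≫ j) ≫ toUnit _) (𝟙 _), Category.id_comp, ← AVAmpleLib.bcPt_comp]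
        rfl
      apply (AVAmpleLib.bcPt_bijective Ω).1
      rw [AVAmpleLib.bcPt_comp, h2, AVAmpleLib.bcPt_comp, Category.assoc, Category.assoc, ← hr, Category.assoc]
      erw [h1]
      rw [MonObj.comp_one]
      exact (map_one (AVAmpleLib.ptsMulEquiv Ω A)).symm
    intro T' s x
    let u : P ⊗ G ⟶ A := lift (fst P G ≫ n ≫ j) (snd P G) ≫ c ≫ α
    have hu : u = 1 := eq_of_points u 1 fun a => by
      rw [MonObj.comp_one]
      simp only [u, P, comp_lift_assoc, lift_fst_assoc, lift_snd, Category.id_comp]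
      simpa only [cj, Category.assoc] using key a
    have h3 := congrArg (lift s x ≫ ·) hu
    simp only [u, comp_lift_assoc, lift_fst_assoc, lift_snd, MonObj.comp_one] at h3
    simpa only [cj, Category.assoc] using h3
  -- the quotient by the intersection is proper
  haveI : Flat G₀.hom := inferInstance
  haveI : LocallyOfFiniteType K.hom := by rw [← Over.w t]; infer_instance
  haveI : Flat K.hom := Groth.Agent.GrpField.flat_field _
  obtain ⟨Q₀, _, p, _, hpf, hps, hpl, hpk, hQsep, -, hQsm⟩ := Groth.Agent.S3030.result k K G₀ t htn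
  haveI := hpf; haveI := hps; haveI := hpl; haveI := hQsep
  haveI : Smooth Q₀.hom := hQsm inferInstance
  haveI : CompactSpace G₀.left := QuasiCompact.compactSpace_of_compactSpace G₀.hom
  haveI : CompactSpace Q₀.left := ⟨by
    rw [← Set.range_eq_univ.mpr p.left.surjective]; exact isCompact_range p.left.continuous⟩
  haveI : QuasiCompact Q₀.hom := quasiCompact_of_compactSpace _
  have hd : ∀ (T : Over (Spec (CommRingCat.of k))) (a b : T ⟶ G₀), a ≫ p = b ≫ p → a ≫ α = b ≫ α := by
    intro T a b e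
    obtain ⟨z, hz⟩ := AntiAffLib.exists_lift_kernel hpk (a * b⁻¹)
      (by rw [MonObj.mul_comp, GrpObj.inv_comp, e, mul_inv_cancel])
    have h := congrArg (· ≫ α) hz
    simp only [Category.assoc] at h
    rw [hta, MonObj.comp_one, MonObj.mul_comp, GrpObj.inv_comp] at h
    exact mul_inv_eq_one.1 h.symm
  obtain ⟨q, hq⟩ := Groth.Agent.MonoQuot.exists_desc_over p α hd
  haveI := Groth.Agent.MonoQuot.epi_over p
  haveI : IsMonHom q := by
    have h1 : η[Q₀] ≫ q = η[A] := by
      rw [← IsMonHom.one_hom p, Category.assoc, hq, IsMonHom.one_hom]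
    refine { one_hom := h1, mul_hom := ?_ }
    obtain ⟨_, _, _⟩ := Groth.Agent.MonoQuot.fppf_tensor p p
    haveI := Groth.Agent.MonoQuot.epi_over (p ⊗ₘ p)
    rw [← cancel_epi (p ⊗ₘ p), tensorHom_comp_tensorHom_assoc, hq, ← IsMonHom.mul_hom_assoc, hq, IsMonHom.mul_hom]
  haveI : Surjective q.left := by
    haveI : Surjective (p.left ≫ q.left) := by rw [← Over.comp_left, hq]; infer_instance
    exact Surjective.of_comp p.left q.left
  haveI : IsReduced A.left := by
    haveI : IsReduced G₀.left := AlgSpLib.isReduced_of_smooth G₀.hom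
    haveI : Smooth A.hom := by
      haveI : Smooth (α.left ≫ A.hom) := by rw [Over.w α]; infer_instance
      haveI := AntiAffLib.lfp_of_lft α
      exact FlatLib.smooth_of_fppf_comp α.left A.hom
    exact AlgSpLib.isReduced_of_smooth A.hom
  haveI : Flat q.left := AntiAffLib.flat_of_surjective q
  haveI : QuasiCompact q.left := by
    haveI : QuasiCompact (q.left ≫ A.hom) := by rw [Over.w q]; infer_instance
    exact QuasiCompact.of_comp q.left A.hom
  obtain ⟨E, _, iE, _, hiE, hkE, -⟩ := AntiAffLib.exists_kernel q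
  haveI := hiE
  haveI : LocallyOfFiniteType E.hom := by rw [← Over.w iE]; infer_instance
  haveI : QuasiCompact E.hom := by rw [← Over.w iE]; infer_instance
  haveI : IsSeparated E.hom := Groth.Agent.GrpField.isSeparated_grp (G := E)
  haveI : Mono iE := Over.mono_of_mono_left iE
  obtain ⟨r, hr⟩ := AntiAffLib.exists_lift_kernel hkE (j ≫ p)
    (by rw [Category.assoc, hq, AntiAffLib.kernel_comp hk])
  have hlK : Function.Surjective l.left := by
    haveI : IsClosedImmersion (l.left ≫ j.left) := by rw [← Over.comp_left, hl]; infer_instance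
    haveI : IsClosedImmersion l.left := IsClosedImmersion.of_comp l.left j.left
    haveI : JacobsonSpace N.left := LocallyOfFiniteType.jacobsonSpace N.hom
    have hcl : IsClosed (Set.range l.left) := l.left.isClosedEmbedding.isClosed_range
    rw [← Set.range_eq_univ, ← hcl.closure_eq, ← dense_iff_closure_eq]
    refine Dense.mono (fun y hy => ?_) (dense_iff_closure_eq.mpr (closure_closedPoints (X := N.left)))
    obtain ⟨n, rfl⟩ := AVAmpleLib.exists_imgPt (Ω := Ω) hy
    obtain ⟨z, hz⟩ := (hK (n ≫ j)).2 (hpt n)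
    have hz' : z ≫ l = n := by rw [← cancel_mono j, Category.assoc, hl, hz]
    exact ⟨imgPt z, by rw [← hz', AVAmpleLib.imgPt_comp]⟩
  have hsq : IsPullback r j iE p := by
    have hex : ∀ s : PullbackCone iE p, ∃ z : s.pt ⟶ N, z ≫ j = s.snd := fun s =>
      AntiAffLib.exists_lift_kernel hk s.snd (by
        rw [← hq, ← Category.assoc, ← s.condition, Category.assoc, AntiAffLib.kernel_comp hkE, MonObj.comp_one])
    refine IsPullback.of_isLimit' ⟨hr⟩ (PullbackCone.IsLimit.mk _ (fun s => (hex s).choose)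
      (fun s => ?_) (fun s => (hex s).choose_spec) (fun s m h1 h2 => ?_))
    · rw [← cancel_mono iE, Category.assoc, hr, ← Category.assoc, (hex s).choose_spec]
      exact s.condition.symm
    · rw [← cancel_mono j]
      exact h2.trans (hex s).choose_spec.symm
  haveI : Surjective r.left := MorphismProperty.of_isPullback (P := @Surjective) (hsq.map (Over.forget _)).flip hps
  have hlr : l ≫ r = toUnit K ≫ η[E] := by
    rw [← Hom.one_def, ← cancel_mono iE, Category.assoc, hr, ← Category.assoc, hl, AntiAffLib.kernel_comp hpk,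
      MonObj.one_comp]
  haveI : Subsingleton E.left := by
    refine ⟨fun e e' => ?_⟩
    obtain ⟨y, rfl⟩ := r.left.surjective e
    obtain ⟨y', rfl⟩ := r.left.surjective e'
    obtain ⟨z, rfl⟩ := hlK y
    obtain ⟨z', rfl⟩ := hlK y'
    rw [← Scheme.Hom.comp_apply, ← Scheme.Hom.comp_apply, ← Over.comp_left, hlr, Over.comp_left,
      Scheme.Hom.comp_apply, Scheme.Hom.comp_apply]
    exact congrArg (η[E]).left (@Subsingleton.elim (PrimeSpectrum k) _ _ _)
  haveI : Subsingleton ↥(Spec (CommRingCat.of k)) := inferInstanceAs (Subsingleton (PrimeSpectrum k))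
  haveI : IsFinite E.hom := Groth.Agent.QuotRep.isFinite_of_subsingleton E.hom fun _ => Set.toFinite _
  haveI : IsFinite q.left := MorphismProperty.of_isPullback_of_descendsAlong (P := @IsFinite)
    (Q := @Surjective ⊓ @Flat ⊓ @QuasiCompact) ((Groth.Agent.GrpKerShear.isPullback_shear q iE hkE).map (Over.forget _))
    ⟨⟨‹Surjective q.left›, ‹Flat q.left›⟩, ‹QuasiCompact q.left›⟩ (by
      show IsFinite (fst Q₀ E).left
      rw [Over.fst_left]
      exact MorphismProperty.pullback_fst _ _ inferInstance)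
  haveI : IsProper Q₀.hom := by rw [← Over.w q]; infer_instance
  obtain ⟨l', hl'⟩ := AntiAffLib.exists_lift_kernel hpk j (hmin Q₀ p)
  intro T g m
  have h := (hK (m ≫ j)).1 ⟨m ≫ l', by rw [Category.assoc, hl']⟩ T (𝟙 T) g
  rw [Category.id_comp] at h
  obtain ⟨m', hm'⟩ := AntiAffLib.exists_lift_kernel hk (cj (m ≫ j) g) h
  refine ⟨m', ?_⟩
  rw [← Category.assoc m', hm', hcj, Category.assoc]

end AlbNormLib

end
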