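import Groth.Agent.AVAmpleLib.TorsClosure
import Groth.Agent.AVAmpleLib.HomDiv
import Groth.Agent.AVAmpleLib.Complement
import Groth.Agent.AVAmpleLib.BcDeg
import Groth.Agent.GrpFieldLib.Comps
import Groth.Agent.AlbLib.AVClass
import Groth.Prelude

/-!
# Testing families of morphisms on geometric points
-/

set_option autoImplicit false
set_option linter.style.haveILetI false
set_option backward.isDefEq.respectTransparency false
set_option maxHeartbeats 1600000

universe u

open CategoryTheory CategoryTheory.Limits MonoidalCategory CartesianMonoidalCategory AlgebraicGeometry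
open scoped MonObj
open AVAmpleLib (bcF bcPt)

noncomputable section

namespace AlbNormLib

variable {k : Type u} [Field k] {Ω : Type u} [Field Ω] [IsAlgClosed Ω] [Algebra k Ω]

/-- The morphism over the extension defined by a morphism out of a product with a point. -/
def toBc {X Y : Over (Spec (CommRingCat.of k))} (u : SGA7.pt (K := k) Ω ⊗ X ⟶ Y) :
    (bcF Ω).obj X ⟶ (bcF Ω).obj Y :=
  Over.homMk (pullback.lift ((pullbackSymmetry X.hom _).hom ≫ u.left) (pullback.snd X.hom _) (by
    rw [Category.assoc, Over.w u]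
    show _ ≫ pullback.fst _ X.hom ≫ Spec.map _ = _
    rw [pullbackSymmetry_hom_comp_fst_assoc])) (pullback.lift_snd _ _ _)

theorem bcPt_toBc {X Y : Over (Spec (CommRingCat.of k))} (u : SGA7.pt (K := k) Ω ⊗ X ⟶ Y)
    (a : SGA7.pt (K := k) Ω ⟶ X) : bcPt Ω a ≫ toBc u = bcPt Ω (lift (𝟙 _) a ≫ u) := by
  refine Over.OverMorphism.ext ?_
  rw [Over.comp_left, AVAmpleLib.bcPt_left, AVAmpleLib.bcPt_left]
  apply pullback.hom_ext
  · simp only [toBc, Over.homMk_left, Category.assoc, pullback.lift_fst, Over.comp_left]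
    rw [← Category.assoc]
    refine congrArg (· ≫ u.left) ?_
    apply pullback.hom_ext
    · simp
    · simp
  · simp [toBc]

/-- Two morphisms out of a product with a point agree when they agree on all points of a geometrically reduced factor. -/
theorem eq_of_points {X Y : Over (Spec (CommRingCat.of k))} [GeometricallyReduced X.hom] [LocallyOfFiniteType X.hom]
    [LocallyOfFiniteType Y.hom] [IsSeparated Y.hom] (u v : SGA7.pt (K := k) Ω ⊗ X ⟶ Y)
    (h : ∀ a : SGA7.pt (K := k) Ω ⟶ X, lift (𝟙 _) a ≫ u = lift (𝟙 _) a ≫ v) : u = v := by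
  let ξ := Spec.map (CommRingCat.ofHom (algebraMap k Ω))
  haveI : IsReduced ((bcF Ω).obj X).left :=
    GeometricallyReduced.geometrically_isReduced (f := X.hom) ξ _ _ (IsPullback.of_hasPullback X.hom ξ)
  haveI : LocallyOfFiniteType ((bcF Ω).obj X).hom := inferInstanceAs (LocallyOfFiniteType (pullback.snd X.hom ξ))
  haveI : LocallyOfFiniteType ((bcF Ω).obj Y).hom := inferInstanceAs (LocallyOfFiniteType (pullback.snd Y.hom ξ))
  haveI : IsSeparated ((bcF Ω).obj Y).hom := inferInstanceAs (IsSeparated (pullback.snd Y.hom ξ))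
  have h1 : toBc u = toBc v := AVAmpleLib.hom_ext_of_points _ _ fun b => by
    obtain ⟨a, rfl⟩ := (AVAmpleLib.bcPt_bijective Ω).2 b
    rw [bcPt_toBc, bcPt_toBc, h]
  have h2 := congrArg (fun w : (bcF Ω).obj X ⟶ (bcF Ω).obj Y => w.left ≫ pullback.fst Y.hom ξ) h1
  simp only [toBc, Over.homMk_left, pullback.lift_fst, ξ] at h2
  exact Over.OverMorphism.ext ((cancel_epi _).1 h2)

end AlbNormLib

end
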