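import Groth.Agent.AVAmpleLib.TorsClosure
import Mathlib.FieldTheory.Minpoly.IsConjRoot
import Mathlib.FieldTheory.PrimitiveElement
import Mathlib.FieldTheory.SeparableClosure
import Mathlib.FieldTheory.IsAlgClosed.AlgebraicClosure
import Mathlib.RingTheory.Unramified.Field

/-!
Abelian subvarieties descend along primary field extensions.
-/

set_option autoImplicit false
set_option linter.style.haveILetI false
set_option backward.isDefEq.respectTransparency false
set_option maxHeartbeats 1000000

noncomputable section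

universe u

open CategoryTheory CategoryTheory.Limits MonoidalCategory CartesianMonoidalCategory MonObj AlgebraicGeometry
open Groth.Agent AVAmpleLib

namespace AlbNormLib

variable {k K Ω : Type u} [Field k] [Field K] [Algebra k K] [Field Ω] [Algebra k Ω] [Algebra K Ω] [IsScalarTower k K Ω]
  [IsAlgClosed Ω]

open Polynomial in
/-- Over a primary extension the minimal polynomial of a separable element does not change. -/
theorem minpoly_eq_map_of_primary (hprim : ∀ x : K, IsSeparable k x → x ∈ (algebraMap k K).range) {x : Ω}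
    (hx : IsSeparable k x) : minpoly K x = (minpoly k x).map (algebraMap k K) := by
  have hint : IsIntegral k x := hx.isIntegral
  have hintK : IsIntegral K x := hint.tower_top
  have hdvd : minpoly K x ∣ (minpoly k x).map (algebraMap k K) := minpoly.dvd_map_of_isScalarTower k K x
  have hmon : ((minpoly K x).map (algebraMap K Ω)).Monic := (minpoly.monic hintK).map _
  have hlift : (minpoly K x).map (algebraMap K Ω) ∈ lifts (algebraMap (separableClosure k Ω) Ω) := by
    rw [(IsAlgClosed.splits ((minpoly K x).map (algebraMap K Ω))).eq_prod_roots_of_monic hmon]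
    refine multiset_prod_mem _ fun q hq => ?_
    obtain ⟨r, hr, rfl⟩ := Multiset.mem_map.1 hq
    have hr0 : aeval r (minpoly k x) = 0 := by
      obtain ⟨q', hq'⟩ := hdvd
      rw [mem_roots hmon.ne_zero, IsRoot, Polynomial.eval_map] at hr
      rw [← aeval_map_algebraMap K r (minpoly k x), hq', map_mul, aeval_def, hr, zero_mul]
    have hrsep : IsSeparable k r := by
      rw [IsSeparable, ← minpoly.eq_of_irreducible_of_monic (minpoly.irreducible hint) hr0 (minpoly.monic hint)]
      exact hx
    refine ⟨X - C ⟨r, mem_separableClosure_iff.2 hrsep⟩, ?_⟩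
    simp
  have hco : minpoly K x ∈ lifts (algebraMap k K) := by
    rw [lifts_iff_coeff_lifts]
    intro n
    obtain ⟨s, hs⟩ := (lifts_iff_coeff_lifts _).1 hlift n
    rw [coeff_map] at hs
    have h1 : IsSeparable k (algebraMap K Ω ((minpoly K x).coeff n)) := hs ▸ mem_separableClosure_iff.1 s.2
    exact RingHom.mem_range.1 (hprim _ (IsSeparable.tower_bot h1))
  obtain ⟨g, hg, -, hgm⟩ := lifts_and_degree_eq_and_monic hco (minpoly.monic hintK)
  have hgd : g ∣ minpoly k x := by
    rwa [← map_dvd_map (algebraMap k K) (algebraMap k K).injective hgm, hg]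
  have hgu : ¬ IsUnit g := fun h => by
    rw [hgm.isUnit_iff] at h
    rw [h, Polynomial.map_one] at hg
    exact minpoly.ne_one K x hg.symm
  have hge : g = minpoly k x := eq_of_monic_of_associated hgm (minpoly.monic hint)
    (((minpoly.irreducible hint).dvd_iff.1 hgd).resolve_left hgu).symm
  rw [← hg, hge]

/-- Embeddings of a finite separable field into an algebraically closed extension of a primary extension are conjugate
over it. -/
theorem exists_conj_of_primary [Normal K Ω] (hprim : ∀ x : K, IsSeparable k x → x ∈ (algebraMap k K).range)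
    (L : Type u) [Field L] [Algebra k L] [Module.Finite k L] [Algebra.IsSeparable k L] (φ φ' : L →ₐ[k] Ω) :
    ∃ σ : Ω ≃ₐ[K] Ω, ∀ x, σ (φ x) = φ' x := by
  obtain ⟨α, hα⟩ := Field.exists_primitive_element k L
  have hsep : ∀ ψ : L →ₐ[k] Ω, minpoly K (ψ α) = (minpoly k α).map (algebraMap k K) := fun ψ => by
    rw [minpoly_eq_map_of_primary hprim (by
      rw [IsSeparable, minpoly.algHom_eq ψ ψ.injective]
      exact Algebra.IsSeparable.isSeparable k α), minpoly.algHom_eq ψ ψ.injective]
  have hconj : IsConjRoot K (φ α) (φ' α) := by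
    rw [isConjRoot_def, hsep, hsep]
  obtain ⟨σ, hσ⟩ := hconj.exists_algEquiv
  refine ⟨σ.symm, fun x => ?_⟩
  have he : (σ.symm.restrictScalars k).toAlgHom.comp φ = φ' := by
    have htop : Algebra.adjoin k {α} = ⊤ := by
      rw [← IntermediateField.adjoin_simple_toSubalgebra_of_isAlgebraic (Algebra.IsAlgebraic.isAlgebraic α), hα,
        IntermediateField.top_toSubalgebra]
    refine AlgHom.ext_of_adjoin_eq_top htop fun y hy => ?_
    rw [Set.mem_singleton_iff] at hy
    subst hy
    show σ.symm (φ y) = φ' y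
    rw [← hσ]
    exact σ.symm_apply_apply _
  exact DFunLike.congr_fun he x

/-- Two geometric points of a finite unramified scheme at the same place are conjugate over a primary extension. -/
theorem exists_conj_pt [Normal K Ω] (hprim : ∀ x : K, IsSeparable k x → x ∈ (algebraMap k K).range) {Z : Scheme.{u}}
    (q : Z ⟶ Spec (CommRingCat.of k)) [IsFinite q] [FormallyUnramified q] (b b' : Spec (CommRingCat.of Ω) ⟶ Z)
    (hb : b ≫ q = Spec.map (CommRingCat.ofHom (algebraMap k Ω)))
    (hb' : b' ≫ q = Spec.map (CommRingCat.ofHom (algebraMap k Ω)))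
    (h : b (IsLocalRing.closedPoint Ω) = b' (IsLocalRing.closedPoint Ω)) :
    ∃ σ : Ω ≃ₐ[K] Ω, Spec.map (CommRingCat.ofHom (σ : Ω →+* Ω)) ≫ b = b' := by
  haveI : IsAffine Z := isAffine_of_isAffineHom q
  obtain ⟨R, e⟩ : ∃ R : CommRingCat.{u}, Nonempty (Z ≅ Spec R) := ⟨_, ⟨Z.isoSpec⟩⟩
  obtain ⟨e⟩ := e
  obtain ⟨f, hf⟩ := Spec.map_surjective (e.inv ≫ q)
  obtain ⟨φ, hφ⟩ := Spec.map_surjective (b ≫ e.hom)
  obtain ⟨φ', hφ'⟩ := Spec.map_surjective (b' ≫ e.hom)
  letI : Algebra k R := f.hom.toAlgebra
  haveI : IsFinite (Spec.map f) := by rw [hf]; infer_instance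
  haveI : Module.Finite k R := (IsFinite.SpecMap_iff (f := f)).1 inferInstance
  haveI : FormallyUnramified (Spec.map f) := by rw [hf]; exact MorphismProperty.comp_mem _ _ _ inferInstance ‹_›
  haveI : Algebra.FormallyUnramified k R :=
    RingHom.formallyUnramified_algebraMap.1
      ((HasRingHomProperty.Spec_iff (P := @FormallyUnramified)).1 (inferInstance : FormallyUnramified (Spec.map f)))
  have hk : ∀ ψ : R ⟶ CommRingCat.of Ω, Spec.map ψ ≫ Spec.map f = Spec.map (CommRingCat.ofHom (algebraMap k Ω)) →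
      ∀ r, ψ.hom (algebraMap k R r) = algebraMap k Ω r := fun ψ hψ r => by
    rw [← Spec.map_comp] at hψ
    exact congr($(Spec.map_injective hψ) r)
  let a : R →ₐ[k] Ω := ⟨φ.hom, hk φ (by rw [hφ, hf, Category.assoc, e.hom_inv_id_assoc, hb])⟩
  let a' : R →ₐ[k] Ω := ⟨φ'.hom, hk φ' (by rw [hφ', hf, Category.assoc, e.hom_inv_id_assoc, hb'])⟩
  have hker : RingHom.ker (a' : R →+* Ω) = RingHom.ker (a : R →+* Ω) := by
    have h1 : Spec.map φ' (IsLocalRing.closedPoint Ω) = Spec.map φ (IsLocalRing.closedPoint Ω) := by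
      rw [hφ, hφ', Scheme.Hom.comp_apply, Scheme.Hom.comp_apply, h]
    have h2 : ∀ ψ : R →+* Ω, Ideal.comap ψ (IsLocalRing.closedPoint Ω).asIdeal = RingHom.ker ψ := fun ψ => by
      rw [show (IsLocalRing.closedPoint Ω).asIdeal = ⊥ from IsLocalRing.maximalIdeal_eq_bot]
      rfl
    rw [← h2, ← h2]
    exact congrArg PrimeSpectrum.asIdeal h1
  let P := RingHom.ker (a : R →+* Ω)
  haveI : P.IsPrime := RingHom.ker_isPrime _
  haveI : IsDomain (R ⧸ P) := Ideal.Quotient.isDomain P
  haveI : Module.Finite k (R ⧸ P) := Module.Finite.of_surjective (Ideal.Quotient.mkₐ k P).toLinearMap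
    Ideal.Quotient.mk_surjective
  letI : Field (R ⧸ P) :=
    (isField_of_isIntegral_of_isField' (R := k) (S := R ⧸ P) (Field.toIsField k)).toField
  haveI : Algebra.IsSeparable k (R ⧸ P) := Algebra.FormallyUnramified.isSeparable k _
  obtain ⟨σ, hσ⟩ := exists_conj_of_primary hprim (R ⧸ P) (Ideal.Quotient.liftₐ P a fun r hr => hr)
    (Ideal.Quotient.liftₐ P a' fun r hr => (hker ▸ hr : r ∈ RingHom.ker (a' : R →+* Ω)))
  refine ⟨σ, ?_⟩
  have hc : φ ≫ CommRingCat.ofHom (σ : Ω →+* Ω) = φ' := by
    ext r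
    exact hσ (Ideal.Quotient.mk P r)
  rw [← cancel_mono e.hom, Category.assoc, ← hφ, ← hφ', ← Spec.map_comp, hc]

section Pts

variable {X : Over (Spec (CommRingCat.of k))}

omit [IsAlgClosed Ω] in
theorem specMap_tower : Spec.map (CommRingCat.ofHom (algebraMap K Ω)) ≫ Spec.map (CommRingCat.ofHom (algebraMap k K)) =
    Spec.map (CommRingCat.ofHom (algebraMap k Ω)) := by
  rw [← Spec.map_comp, ← CommRingCat.ofHom_comp, ← IsScalarTower.algebraMap_eq]

/-- The tautological point over the intermediate field. -/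
def diagK : SGA7.pt (K := K) Ω ⟶ (bcF K).obj (SGA7.pt (K := k) Ω) :=
  Over.homMk (pullback.lift (𝟙 _) (Spec.map (CommRingCat.ofHom (algebraMap K Ω)))
    ((Category.id_comp _).trans specMap_tower.symm)) (pullback.lift_snd _ _ _)

/-- The point over the intermediate field. -/
def liftK (a : SGA7.pt (K := k) Ω ⟶ X) : SGA7.pt (K := K) Ω ⟶ (bcF K).obj X :=
  diagK ≫ (bcF K).map a

omit [IsAlgClosed Ω] in
theorem liftK_fst (a : SGA7.pt (K := k) Ω ⟶ X) :
    (liftK (K := K) a).left ≫ pullback.fst X.hom (Spec.map (CommRingCat.ofHom (algebraMap k K))) = a.left := by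
  simp [liftK, diagK]
  exact Category.id_comp _

omit [IsAlgClosed Ω] in
theorem liftK_snd (a : SGA7.pt (K := k) Ω ⟶ X) :
    (liftK (K := K) a).left ≫ pullback.snd X.hom (Spec.map (CommRingCat.ofHom (algebraMap k K))) =
      Spec.map (CommRingCat.ofHom (algebraMap K Ω)) := Over.w (liftK (K := K) a)

omit [IsAlgClosed Ω] in
theorem fst_imgPt_liftK (a : SGA7.pt (K := k) Ω ⟶ X) :
    pullback.fst X.hom (Spec.map (CommRingCat.ofHom (algebraMap k K))) (imgPt (liftK (K := K) a)) = imgPt a := by
  show ((liftK (K := K) a).left ≫ pullback.fst X.hom (Spec.map (CommRingCat.ofHom (algebraMap k K)))) _ = _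
  rw [liftK_fst]
  rfl

omit [IsAlgClosed Ω] in
theorem exists_liftK (c : SGA7.pt (K := K) Ω ⟶ (bcF K).obj X) : ∃ a : SGA7.pt (K := k) Ω ⟶ X, liftK a = c := by
  refine ⟨Over.homMk (c.left ≫ pullback.fst X.hom (Spec.map (CommRingCat.ofHom (algebraMap k K)))) ?_,
    Over.OverMorphism.ext (pullback.hom_ext ?_ ?_)⟩
  · show (c.left ≫ _) ≫ X.hom = Spec.map (CommRingCat.ofHom (algebraMap k Ω))
    rw [Category.assoc, pullback.condition, ← Category.assoc, show c.left ≫ pullback.snd X.hom _ = _ from Over.w c]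
    exact specMap_tower
  · rw [liftK_fst]; rfl
  · rw [liftK_snd]; exact (Over.w c).symm

variable [GrpObj X]

local instance grpBcK (Z : Over (Spec (CommRingCat.of k))) [GrpObj Z] : GrpObj ((bcF K).obj Z) := Functor.grpObjObj

omit [IsAlgClosed Ω] in
theorem liftK_mul (a b : SGA7.pt (K := k) Ω ⟶ X) : liftK (K := K) (a * b) = liftK a * liftK b := by
  rw [liftK, Functor.map_mul, MonObj.comp_mul]
  rfl

/-- Lifting of points, as a homomorphism. -/
def liftKHom : (SGA7.pt (K := k) Ω ⟶ X) →* (SGA7.pt (K := K) Ω ⟶ (bcF K).obj X) :=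
  MonoidHom.mk' liftK liftK_mul

end Pts

variable {A : Over (Spec (CommRingCat.of k))} [GrpObj A] [IsProper A.hom] [GeometricallyIntegral A.hom]

/-- Over a primary extension there is only one point above a torsion point of order prime to the characteristic. -/
theorem imgPt_liftK_eq [Normal K Ω] (hprim : ∀ x : K, IsSeparable k x → x ∈ (algebraMap k K).range) {n : ℕ}
    (hn : (n : k) ≠ 0) {a a' : SGA7.pt (K := k) Ω ⟶ A} (ha : a ^ n = 1) (h : imgPt a = imgPt a') :
    imgPt (liftK (K := K) a) = imgPt (liftK (K := K) a') := by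
  haveI : IsCommMonObj A := CubeConsLib.isCommMonObj_field
  haveI : LocallyOfFinitePresentation A.hom := LocallyOfFinitePresentation.iff_locallyOfFiniteType.2 inferInstance
  have hne : n ≠ 0 := fun h0 => hn (by rw [h0, Nat.cast_zero])
  let f := (𝟙 A ^ n).left
  let e₀ : Spec (CommRingCat.of k) ⟶ A.left := (η[A] : 𝟙_ (Over (Spec (CommRingCat.of k))) ⟶ A).left
  haveI : IsClosedImmersion e₀ := isClosedImmersion_of_comp_eq_id A.hom e₀ (Over.w _)
  haveI : IsFinite f := by
    show IsFinite (𝟙 A ^ n).left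
    rw [← zpow_natCast]; exact isFinite_zpow A (by exact_mod_cast hne)
  haveI : Etale f := by
    show Etale (𝟙 A ^ n).left
    rw [← zpow_natCast]
    refine (AbSchLib.isFinite_etale_zpow A _ ?_).2
    simpa using (isUnit_iff_ne_zero.2 hn).map (Scheme.ΓSpecIso (CommRingCat.of k)).inv.hom
  haveI : Etale (pullback.snd f e₀) := MorphismProperty.pullback_snd _ _ inferInstance
  haveI : IsFinite (pullback.snd f e₀) := MorphismProperty.pullback_snd _ _ inferInstance
  have ha' : a' ^ n = 1 := by
    rw [← imgPt_eq_unit_iff, ← Category.comp_id a', ← MonObj.comp_pow, imgPt_comp, ← h, ← imgPt_comp,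
      MonObj.comp_pow, Category.comp_id, imgPt_eq_unit_iff]
    exact ha
  have key : ∀ c : SGA7.pt (K := k) Ω ⟶ A, c ^ n = 1 →
      c.left ≫ f = Spec.map (CommRingCat.ofHom (algebraMap k Ω)) ≫ e₀ := fun c hc => by
    show (c ≫ 𝟙 A ^ n).left = _
    rw [MonObj.comp_pow, Category.comp_id, hc, Hom.one_def]
    rfl
  let b := pullback.lift a.left _ (key a ha)
  let b' := pullback.lift a'.left _ (key a' ha')
  obtain ⟨σ, hσ⟩ := exists_conj_pt hprim (pullback.snd f e₀) b b' (pullback.lift_snd _ _ _) (pullback.lift_snd _ _ _) (by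
    apply (pullback.fst f e₀).isEmbedding.injective
    rw [← Scheme.Hom.comp_apply, ← Scheme.Hom.comp_apply, pullback.lift_fst, pullback.lift_fst]
    exact h)
  have hσa : Spec.map (CommRingCat.ofHom (σ : Ω →+* Ω)) ≫ a.left = a'.left := by
    have := congrArg (· ≫ pullback.fst f e₀) hσ
    simpa only [Category.assoc, b, b', pullback.lift_fst] using this
  have hlift : SGA7.specAut σ ≫ liftK (K := K) a = liftK a' := by
    refine Over.OverMorphism.ext (pullback.hom_ext ?_ ?_)
    · rw [Over.comp_left, Category.assoc, liftK_fst, liftK_fst]; exact hσa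
    · rw [Over.comp_left, Category.assoc, liftK_snd, liftK_snd]
      exact SGA7.spec_map_algEquiv_comp σ
  rw [← hlift]
  exact congrArg (liftK (K := K) a).left (Subsingleton.elim (α := PrimeSpectrum Ω) _ _)

end AlbNormLib

end
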