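import Groth.Agent.ChevThmLib.Chevalley
import Groth.Agent.S14582
import Groth.Prelude

/-!
# Rosenlicht's decomposition over an algebraically closed field
-/

set_option autoImplicit false
set_option linter.style.haveILetI false
set_option backward.isDefEq.respectTransparency false
set_option maxHeartbeats 1600000

universe u

open CategoryTheory CategoryTheory.Limits MonoidalCategory CartesianMonoidalCategory AlgebraicGeometry
open scoped MonObj

noncomputable section

namespace AlbNormLib

variable {k : Type u} [Field k]

/-- Commutativity of a smooth group can be checked on rational points. -/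
theorem isCommMonObj_of_points [IsAlgClosed k] (G : Over (Spec (CommRingCat.of k))) [GrpObj G] [Smooth G.hom]
    (h : ∀ a b : 𝟙_ (Over (Spec (CommRingCat.of k))) ⟶ G, a * b = b * a) : IsCommMonObj G := by
  haveI : IsSeparated G.hom := Groth.Agent.GrpField.isSeparated_grp (G := G)
  haveI : Smooth (G ⊗ G).hom := inferInstanceAs (Smooth (pullback.fst G.hom G.hom ≫ G.hom))
  haveI : IsReduced (G ⊗ G).left := AlgSpLib.isReduced_of_smooth (G ⊗ G).hom
  have e : fst G G * snd G G = snd G G * fst G G :=
    AVAmpleLib.hom_ext_of_points _ _ fun a => by simp only [MonObj.comp_mul]; exact h _ _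
  have hb : (β_ G G).hom = lift (snd G G) (fst G G) := by apply CartesianMonoidalCategory.hom_ext <;> simp
  constructor
  rw [hb]
  rw [Hom.mul_def, Hom.mul_def, lift_fst_snd, Category.id_comp] at e
  exact e.symm

/-- Rosenlicht's decomposition with the kernel of the affinization as anti-affine part. -/
theorem surjective_gAff_antiAff [IsAlgClosed k] {G : Over (Spec (CommRingCat.of k))} [GrpObj G] [Smooth G.hom]
    [QuasiCompact G.hom] [ConnectedSpace G.left]
    {N : Over (Spec (CommRingCat.of k))} [GrpObj N] (i : N ⟶ G) [IsMonHom i] [IsClosedImmersion i.left]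
    [Smooth N.hom] [ConnectedSpace N.left] [IsAffine N.left] (hN : AlgGrp.IsNormalHom i)
    (hNmax : ∀ (N' : Over (Spec (CommRingCat.of k))) [GrpObj N'] (i' : N' ⟶ G) [IsMonHom i'] [IsClosedImmersion i'.left]
      [Smooth N'.hom] [ConnectedSpace N'.left] [IsAffine N'.left], AlgGrp.IsNormalHom i' → ∃ f : N' ⟶ N, f ≫ i = i') :
    Surjective ((i ⊗ₘ AntiAffLib.kerIncl G) ≫ μ[G]).left := by
  obtain ⟨Q, _, q, hqm, hqf, hqs, hker, hQp, -, -⟩ :=
    ChevThmLib.exists_chevalley i ⟨inferInstance, inferInstance, inferInstance, inferInstance, inferInstance, hN⟩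
      (fun N' _ i' h => by
        haveI := h.hom; haveI := h.closed; haveI := h.smooth; haveI := h.conn; haveI := h.affine
        exact hNmax N' i' h.normal)
  haveI := hqm; haveI := hqf; haveI := hqs; haveI := hQp
  exact (Groth.Agent.S14582.result k G N i hN Q q hker (AntiAffLib.ker G) (AntiAffLib.kerIncl G)
    ((AntiAffLib.bijective_iff _).2 inferInstance) fun M' _ _ _ j' _ _ h => by
      haveI := (AntiAffLib.bijective_iff M').1 h
      exact AntiAffLib.exists_lift_ker j' (IsMonHom.one_hom j')).1

end AlbNormLib

end
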